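import Groth.Agent.An.H891.Geom
import Groth.Agent.An.H884.ClBC
import Groth.Agent.An.H890.SqPush
import Groth.Agent.Etbase.LanFlat
import Groth.Agent.S0476

/-!
# Derived base change calculus on the classical sites

For `f : C(T, S)`: `clPush f`, `clPull f`, `clAdj f` on `An.Cl.Ab`; `clPull f` is exact; `gCl f : GM _ _`.
`DCl T := DerivedCategory (An.Cl.Ab T)`, `clPullD f`, `clPushD f`, `clDAdj f`.
For a commutative square `w : f.comp g' = g.comp f'` of continuous maps:
* `clsq w : clPush g' ⋙ clPush f ≅ clPush f' ⋙ clPush g`;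
* `ClBC w K : Prop` for `K : DCl X`: the derived base change `g^* Rf_* K ⟶ Rf'_* g'^* K` is an
  isomorphism; `ClBC_iff`.
-/

set_option autoImplicit false
open CategoryTheory CategoryTheory.Limits Opposite TopologicalSpace Topology An

attribute [local instance] HasDerivedCategory.standard

noncomputable section
namespace Groth.Agent.An.H891.ClSq

open Groth.Agent.Etrest.RDer3 Groth.Agent.Etrest.RDer4 Groth.Agent.Etrest.RDer5
  Groth.Agent.An.H884.ClBC Groth.Agent.An.H891.Geom Groth.Agent.An.H890.SqPush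

section basic

variable {T S R : Type} [TopologicalSpace T] [TopologicalSpace S] [TopologicalSpace R]

/-- Direct image on classical sites. -/
abbrev clPush (f : C(T, S)) : Cl.Ab T ⥤ Cl.Ab S :=
  (clBC f).sheafPushforwardContinuous AddCommGrpCat.{1} (Cl.topology S) (Cl.topology T)

/-- Inverse image on classical sites. -/
abbrev clPull (f : C(T, S)) : Cl.Ab S ⥤ Cl.Ab T :=
  (clBC f).sheafPullback AddCommGrpCat.{1} (Cl.topology S) (Cl.topology T)

/-- The adjunction. -/
abbrev clAdj (f : C(T, S)) : clPull f ⊣ clPush f :=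
  (clBC f).sheafAdjunctionContinuous AddCommGrpCat.{1} (Cl.topology S) (Cl.topology T)

instance clPush_additive (f : C(T, S)) : (clPush f).Additive where

instance clPull_additive (f : C(T, S)) : (clPull f).Additive := (clAdj f).left_adjoint_additive

instance clPull_colim (f : C(T, S)) : PreservesFiniteColimits (clPull f) :=
  have : PreservesColimitsOfSize.{0, 0} (clPull f) := (clAdj f).leftAdjoint_preservesColimits
  PreservesColimitsOfSize.preservesFiniteColimits _

instance clPush_lim (f : C(T, S)) : PreservesFiniteLimits (clPush f) :=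
  have : PreservesLimitsOfSize.{0, 0} (clPush f) := (clAdj f).rightAdjoint_preservesLimits
  PreservesLimitsOfSize.preservesFiniteLimits _

set_option backward.isDefEq.respectTransparency.types false in
instance clPull_lim (f : C(T, S)) : PreservesFiniteLimits (clPull f) := by
  have hfl : ∀ K : (Cl T)ᵒᵖ, IsFiltered (CostructuredArrow (clBC f).op K) := fun K =>
    IsFiltered.of_equivalence (structuredArrowOpEquivalence (clBC f) (unop K))
  have : ∀ K : (Cl T)ᵒᵖ, HasColimitsOfShape (CostructuredArrow (clBC f).op K)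
      AddCommGrpCat.{1} := fun K => inferInstance
  have : PreservesFiniteLimits ((clBC f).op.lan :
      (_ ⥤ AddCommGrpCat.{1}) ⥤ (Cl T)ᵒᵖ ⥤ AddCommGrpCat.{1}) :=
    Groth.Agent.Etbase.LanFlat.preservesFiniteLimits_op_lan _ _ (fun K => by
      have := hfl K
      have : HasFilteredColimitsOfSize.{0, 1} AddCommGrpCat.{1} :=
        hasFilteredColimitsOfSize_shrink.{0, 1, 1, 1}
      have : AB5OfSize.{0, 1} AddCommGrpCat.{1} := AB5OfSize_shrink.{0, 1, 1, 1} _
      exact HasExactColimitsOfShape.preservesFiniteLimits)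
  exact Functor.sheafPullbackConstruction.preservesFiniteLimits _ _ _ _

instance hasKInj (T : Type) [TopologicalSpace T] : HasKInj (Cl.Ab T) :=
  ⟨fun K => by
    obtain ⟨I, f, h1, h2, _⟩ := Groth.Agent.S0476.result K
    exact ⟨I, f, h1, h2⟩⟩

instance enoughInj (T : Type) [TopologicalSpace T] : EnoughInjectives (Cl.Ab T) :=
  IsGrothendieckAbelian.enoughInjectives

/-- The derived category of abelian sheaves on the classical site. -/
abbrev DCl (T : Type) [TopologicalSpace T] := DerivedCategory (Cl.Ab T)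

/-- Derived inverse image. -/
abbrev clPullD (f : C(T, S)) : DCl S ⥤ DCl T := (clPull f).mapDerivedCategory

/-- Derived direct image. -/
abbrev clPushD (f : C(T, S)) : DCl T ⥤ DCl S := TR (clPush f)

/-- The derived adjunction. -/
def clDAdj (f : C(T, S)) : clPullD f ⊣ clPushD f := dAdj (clAdj f)

/-- The geometric morphism of classical sites. -/
abbrev gCl (f : C(T, S)) : GM (Cl.Ab T) (Cl.Ab S) where
  L := clPull f
  R := clPush f
  adj := clAdj f
  addL := inferInstance
  addR := inferInstance
  lim := inferInstance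
  colim := inferInstance
  limR := inferInstance

/-- Extensionality for morphisms of abelian sheaves on classical sites. -/
lemma cl_hom_ext {F G : Cl.Ab T} {a b : F ⟶ G}
    (h : ∀ U : Cl T, a.hom.app (op U) = b.hom.app (op U)) : a = b := by
  apply Sheaf.hom_ext
  ext U : 2
  exact h U.unop

lemma clPush_map_app (f : C(T, S)) {F G : Cl.Ab T} (φ : F ⟶ G) (U : Cl S) :
    ((clPush f).map φ).hom.app (op U) = φ.hom.app (op ((clBC f).obj U)) := rfl

end basic

section points

variable {T S R : Type} [TopologicalSpace T] [TopologicalSpace S] [TopologicalSpace R]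

/-- The projection `T ×_S U → U`. -/
def pr (f : C(T, S)) (U : Cl S) (q : ((clBC f).obj U).E) : U.E := q.1.2

lemma continuous_pr (f : C(T, S)) (U : Cl S) : Continuous (pr f U) :=
  continuous_snd.comp continuous_subtype_val

lemma pr_over (f : C(T, S)) (U : Cl S) (q : ((clBC f).obj U).E) :
    U.p (pr f U q) = f (((clBC f).obj U).p q) := q.2.symm

lemma hom_ext_pr (f : C(T, S)) {W : Cl T} {U : Cl S} {a b : W ⟶ (clBC f).obj U}
    (h : ∀ w, pr f U (a.toFun w) = pr f U (b.toFun w)) : a = b := by
  apply Cl.hom_ext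
  funext w
  apply Subtype.ext
  refine Prod.ext ?_ (h w)
  exact (a.over w).trans (b.over w).symm

lemma hom_ext_pr₂ (f : C(T, S)) (g : C(R, T)) {W : Cl R} {U : Cl S}
    {a b : W ⟶ (clBC g).obj ((clBC f).obj U)}
    (h : ∀ w, pr f U (pr g _ (a.toFun w)) = pr f U (pr g _ (b.toFun w))) : a = b := by
  apply hom_ext_pr
  intro w
  apply Subtype.ext
  refine Prod.ext ?_ (h w)
  have e1 : ((clBC f).obj U).p (pr g _ (a.toFun w)) = ((clBC f).obj U).p (pr g _ (b.toFun w)) := by
    rw [pr_over, pr_over, a.over, b.over]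
  exact e1

lemma hom_ext_pr₃ {Q : Type} [TopologicalSpace Q] (f : C(T, S)) (g : C(R, T)) (k : C(Q, R))
    {W : Cl Q} {U : Cl S} {a b : W ⟶ (clBC k).obj ((clBC g).obj ((clBC f).obj U))}
    (h : ∀ w, pr f U (pr g _ (pr k _ (a.toFun w))) = pr f U (pr g _ (pr k _ (b.toFun w)))) :
    a = b := by
  apply hom_ext_pr₂
  intro w
  apply Subtype.ext
  refine Prod.ext ?_ (h w)
  have e1 : ((clBC f).obj U).p (pr g _ (pr k _ (a.toFun w))) =
      ((clBC f).obj U).p (pr g _ (pr k _ (b.toFun w))) := by
    rw [pr_over, pr_over, pr_over, pr_over, a.over, b.over]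
  exact e1

@[simp] lemma pr_map (f : C(T, S)) {U V : Cl S} (a : U ⟶ V) (q : ((clBC f).obj U).E) :
    pr f V (((clBC f).map a).toFun q) = a.toFun (pr f U q) := rfl

lemma comp_toFun_apply {A B C : Cl T} (f : A ⟶ B) (g : B ⟶ C) (x : A.E) :
    (f ≫ g).toFun x = g.toFun (f.toFun x) := rfl

lemma id_toFun_apply {A : Cl T} (x : A.E) : (𝟙 A : A ⟶ A).toFun x = x := rfl

/-- `g^* f^* U ≅ h^* U` for `h = f g`. -/
def compIso' (f : C(T, S)) (g : C(R, T)) {h : C(R, S)} (e : f.comp g = h) :
    clBC f ⋙ clBC g ≅ clBC h :=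
  NatIso.ofComponents (fun U =>
    { hom := ⟨fun q => ⟨(q.1.1, q.1.2.1.2),
        (congrArg (fun k : C(R, S) => k q.1.1) e.symm).trans ((congrArg f q.2).trans q.1.2.2)⟩,
        Continuous.subtype_mk ((continuous_fst.comp continuous_subtype_val).prodMk
          ((continuous_pr f U).comp (continuous_pr g _))) _, fun _ => rfl⟩
      inv := ⟨fun q => ⟨(q.1.1, ⟨(g q.1.1, q.1.2),
          (congrArg (fun k : C(R, S) => k q.1.1) e).trans q.2⟩), rfl⟩,
        Continuous.subtype_mk ((continuous_fst.comp continuous_subtype_val).prodMk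
          (Continuous.subtype_mk ((g.continuous.comp (continuous_fst.comp continuous_subtype_val)).prodMk
            (continuous_snd.comp continuous_subtype_val)) _)) _, fun _ => rfl⟩
      hom_inv_id := hom_ext_pr₂ f g (fun _ => rfl)
      inv_hom_id := hom_ext_pr h (fun _ => rfl) })
    (fun _ => hom_ext_pr h (fun _ => rfl))

/-- `g^* f^* U ≅ (f g)^* U`. -/
abbrev compIso (f : C(T, S)) (g : C(R, T)) : clBC f ⋙ clBC g ≅ clBC (f.comp g) :=
  compIso' f g rfl

@[simp] lemma pr_compIso'_hom (f : C(T, S)) (g : C(R, T)) {h : C(R, S)} (e : f.comp g = h)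
    (U : Cl S) (q : ((clBC g).obj ((clBC f).obj U)).E) :
    pr h U (((compIso' f g e).hom.app U).toFun q) = pr f U (pr g _ q) := rfl

@[simp] lemma pr_pr_compIso'_inv (f : C(T, S)) (g : C(R, T)) {h : C(R, S)} (e : f.comp g = h)
    (U : Cl S) (q : ((clBC h).obj U).E) :
    pr f U (pr g _ (((compIso' f g e).inv.app U).toFun q)) = pr h U q := rfl

/-- Composition of direct images. -/
def clPushComp' (f : C(T, S)) (g : C(R, T)) {h : C(R, S)} (e : f.comp g = h) :
    clPush g ⋙ clPush f ≅ clPush h where
  hom :=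
    { app := fun F => ⟨{ app := fun U => F.obj.map ((compIso' f g e).inv.app U.unop).op
                         naturality := fun U V a => by
                           change F.obj.map ((clBC g).map ((clBC f).map a.unop)).op ≫ F.obj.map _ =
                             F.obj.map _ ≫ F.obj.map ((clBC h).map a.unop).op
                           rw [← Functor.map_comp, ← Functor.map_comp, ← op_comp, ← op_comp]
                           congr 2 }⟩
      naturality := fun M N φ => by
        apply cl_hom_ext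
        intro U
        exact (φ.hom.naturality _).symm }
  inv :=
    { app := fun F => ⟨{ app := fun U => F.obj.map ((compIso' f g e).hom.app U.unop).op
                         naturality := fun U V a => by
                           change F.obj.map ((clBC h).map a.unop).op ≫ F.obj.map _ =
                             F.obj.map _ ≫ F.obj.map ((clBC g).map ((clBC f).map a.unop)).op
                           rw [← Functor.map_comp, ← Functor.map_comp, ← op_comp, ← op_comp]
                           congr 2 }⟩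
      naturality := fun M N φ => by
        apply cl_hom_ext
        intro U
        exact (φ.hom.naturality _).symm }
  hom_inv_id := by
    ext M : 2
    apply cl_hom_ext
    intro U
    change M.obj.map _ ≫ M.obj.map _ = 𝟙 _
    rw [← Functor.map_comp, ← op_comp, Iso.hom_inv_id_app]
    exact M.obj.map_id _
  inv_hom_id := by
    ext M : 2
    apply cl_hom_ext
    intro U
    change M.obj.map _ ≫ M.obj.map _ = 𝟙 _
    rw [← Functor.map_comp, ← op_comp, Iso.inv_hom_id_app]
    exact M.obj.map_id _

/-- Composition of direct images. -/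
abbrev clPushComp (f : C(T, S)) (g : C(R, T)) : clPush g ⋙ clPush f ≅ clPush (f.comp g) :=
  clPushComp' f g rfl

lemma clPushComp'_hom_app_app (f : C(T, S)) (g : C(R, T)) {h : C(R, S)} (e : f.comp g = h)
    (F : Cl.Ab R) (U : Cl S) :
    ((clPushComp' f g e).hom.app F).hom.app (op U) = F.obj.map ((compIso' f g e).inv.app U).op :=
  rfl

lemma clPushComp'_inv_app_app (f : C(T, S)) (g : C(R, T)) {h : C(R, S)} (e : f.comp g = h)
    (F : Cl.Ab R) (U : Cl S) :
    ((clPushComp' f g e).inv.app F).hom.app (op U) = F.obj.map ((compIso' f g e).hom.app U).op :=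
  rfl

/-- Composition of inverse images. -/
def clPullComp' (f : C(T, S)) (g : C(R, T)) {h : C(R, S)} (e : f.comp g = h) :
    clPull f ⋙ clPull g ≅ clPull h :=
  Groth.Agent.EtpbcB.MateCalc.leftIso ((clAdj f).comp (clAdj g)) (clAdj h) (clPushComp' f g e)

/-- Composition of derived inverse images. -/
def clPullDComp' (f : C(T, S)) (g : C(R, T)) {h : C(R, S)} (e : f.comp g = h) :
    clPullD f ⋙ clPullD g ≅ clPullD h :=
  Groth.Agent.Sga4h.DPaste.compD (clPullComp' f g e)

end points

section square

variable {X Y X' Y' : Type} [TopologicalSpace X] [TopologicalSpace Y] [TopologicalSpace X']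
  [TopologicalSpace Y'] {f : C(X, Y)} {g : C(Y', Y)} {f' : C(X', Y')} {g' : C(X', X)}

/-- Commutation at points. -/
lemma w_apply (w : f.comp g' = g.comp f') (x : X') : f (g' x) = g (f' x) :=
  congrArg (fun h : C(X', Y) => h x) w

/-- One direction of `theta`. -/
def thetaHom (w : f.comp g' = g.comp f') (U : Cl Y) :
    (clBC f').obj ((clBC g).obj U) ⟶ (clBC g').obj ((clBC f).obj U) where
  toFun q := ⟨(q.1.1, ⟨(g' q.1.1, q.1.2.1.2),
    (w_apply w q.1.1).trans ((congrArg g q.2).trans q.1.2.2)⟩), rfl⟩
  continuous := Continuous.subtype_mk ((continuous_fst.comp continuous_subtype_val).prodMk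
    (Continuous.subtype_mk ((g'.continuous.comp (continuous_fst.comp continuous_subtype_val)).prodMk
      ((continuous_pr g U).comp (continuous_pr f' _))) _)) _
  over _ := rfl

/-- The isomorphism `g'^* f^* U ≅ f'^* g^* U`. -/
def theta (w : f.comp g' = g.comp f') : clBC f ⋙ clBC g' ≅ clBC g ⋙ clBC f' :=
  NatIso.ofComponents (fun U =>
    { hom := thetaHom w.symm U
      inv := thetaHom w U
      hom_inv_id := hom_ext_pr₂ _ _ (fun _ => rfl)
      inv_hom_id := hom_ext_pr₂ _ _ (fun _ => rfl) })
    (fun _ => hom_ext_pr₂ _ _ (fun _ => rfl))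

@[simp] lemma pr_pr_theta_hom (w : f.comp g' = g.comp f') (U : Cl Y)
    (q : ((clBC g').obj ((clBC f).obj U)).E) :
    pr g U (pr f' _ (((theta w).hom.app U).toFun q)) = pr f U (pr g' _ q) := rfl

@[simp] lemma pr_pr_theta_inv (w : f.comp g' = g.comp f') (U : Cl Y)
    (q : ((clBC f').obj ((clBC g).obj U)).E) :
    pr f U (pr g' _ (((theta w).inv.app U).toFun q)) = pr g U (pr f' _ q) := rfl

/-- For a commutative square, `clPush g' ⋙ clPush f ≅ clPush f' ⋙ clPush g`. -/
abbrev clsq (w : f.comp g' = g.comp f') : clPush g' ⋙ clPush f ≅ clPush f' ⋙ clPush g :=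
  sqPush (theta w) AddCommGrpCat.{1} (Cl.topology Y) (Cl.topology X) (Cl.topology Y')
    (Cl.topology X')

lemma clsq_hom_app_app (w : f.comp g' = g.comp f') (F : Cl.Ab X') (U : Cl Y) :
    ((clsq w).hom.app F).hom.app (op U) = F.obj.map ((theta w).inv.app U).op := rfl

/-- Derived base change for a commutative square of continuous maps. -/
def ClBC (w : f.comp g' = g.comp f') (K : DCl X) : Prop :=
  BC (f := gCl f) (g := gCl g) (f' := gCl f') (g' := gCl g') (clsq w) K

theorem ClBC_iff (w : f.comp g' = g.comp f') (K : DCl X) :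
    ClBC w K ↔ IsIso ((bcD (Groth.Agent.EtpbcB.MateCalc.bcNat (clAdj g) (clAdj g')
      (clsq w).hom)).app K) :=
  BC_iff (f := gCl f) (g := gCl g) (f' := gCl f') (g' := gCl g') K

end square

section coh

variable {X Y X' Y' : Type} [TopologicalSpace X] [TopologicalSpace Y] [TopologicalSpace X']
  [TopologicalSpace Y'] {f : C(X, Y)} {g : C(Y', Y)} {f' : C(X', Y')} {g' : C(X', X)}

section horizontal

variable {X'' Y'' : Type} [TopologicalSpace X''] [TopologicalSpace Y''] {f'' : C(X'', Y'')}
  {h : C(Y'', Y')} {h' : C(X'', X')} {gh : C(Y'', Y)} {gh' : C(X'', X)}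

theorem clsq_hcoh (w₁ : f.comp g' = g.comp f') (w₂ : f'.comp h' = h.comp f'')
    (w : f.comp gh' = gh.comp f'') (c : g.comp h = gh) (c' : g'.comp h' = gh') :
    HCoh (f := gCl f) (g := gCl g) (f' := gCl f') (g' := gCl g') (h := gCl h) (h' := gCl h')
      (f'' := gCl f'') (gh := gCl gh) (gh' := gCl gh')
      (clsq w₁) (clsq w₂) (clsq w) (clPushComp' g h c) (clPushComp' g' h' c') := by
  intro G
  apply cl_hom_ext
  intro U
  change G.obj.map ((compIso' g' h' c').inv.app ((clBC f).obj U)).op ≫
      G.obj.map ((theta w).inv.app U).op =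
    G.obj.map ((clBC h').map ((theta w₁).inv.app U)).op ≫
      G.obj.map ((theta w₂).inv.app ((clBC g).obj U)).op ≫
      G.obj.map ((clBC f'').map ((compIso' g h c).inv.app U)).op
  rw [← Functor.map_comp, ← Functor.map_comp, ← Functor.map_comp, ← op_comp, ← op_comp, ← op_comp]
  congr 2
  exact hom_ext_pr₃ f g' h' (fun _ => rfl)

variable {w₁ : f.comp g' = g.comp f'} {w₂ : f'.comp h' = h.comp f''}

/-- Horizontal pasting. -/
theorem ClBC.hcomp {K : DCl X} (h₁ : ClBC w₁ K) (h₂ : ClBC w₂ ((clPullD g').obj K))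
    (w : f.comp gh' = gh.comp f'') (c : g.comp h = gh) (c' : g'.comp h' = gh') : ClBC w K :=
  BC.hcomp (clsq_hcoh w₁ w₂ w c c') h₁ h₂

theorem ClBC.of_hcomp {w : f.comp gh' = gh.comp f''} {K : DCl X}
    (h₁ : ClBC w₁ K) (hw : ClBC w K) (c : g.comp h = gh) (c' : g'.comp h' = gh') :
    ClBC w₂ ((clPullD g').obj K) :=
  BC.of_hcomp (clsq_hcoh w₁ w₂ w c c') h₁ hw

end horizontal

section vertical

variable {Z Z' : Type} [TopologicalSpace Z] [TopologicalSpace Z'] {e : C(Z, X)} {e' : C(Z', X')}
  {k : C(Z', Z)} {ef : C(Z, Y)} {ef' : C(Z', Y')}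

theorem clsq_vcoh (w₁ : f.comp g' = g.comp f') (w₂ : e.comp k = g'.comp e')
    (w : ef.comp k = g.comp ef') (c : f.comp e = ef) (c' : f'.comp e' = ef') :
    VCoh (f := gCl f) (g := gCl g) (f' := gCl f') (g' := gCl g') (e := gCl e) (e' := gCl e')
      (k := gCl k) (ef := gCl ef) (ef' := gCl ef')
      (clsq w₁) (clsq w₂) (clsq w) (clPushComp' f e c) (clPushComp' f' e' c') := by
  intro G
  apply cl_hom_ext
  intro U
  change G.obj.map ((clBC k).map ((compIso' f e c).inv.app U)).op ≫
      G.obj.map ((theta w).inv.app U).op =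
    G.obj.map ((theta w₂).inv.app ((clBC f).obj U)).op ≫
      G.obj.map ((clBC e').map ((theta w₁).inv.app U)).op ≫
      G.obj.map ((compIso' f' e' c').inv.app ((clBC g).obj U)).op
  rw [← Functor.map_comp, ← Functor.map_comp, ← Functor.map_comp, ← op_comp, ← op_comp, ← op_comp]
  congr 2
  exact hom_ext_pr₃ f e k (fun _ => rfl)

variable {w₁ : f.comp g' = g.comp f'} {w₂ : e.comp k = g'.comp e'}

/-- Vertical pasting. -/
theorem ClBC.vcomp {K : DCl Z} (h₂ : ClBC w₂ K) (h₁ : ClBC w₁ ((clPushD e).obj K))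
    (w : ef.comp k = g.comp ef') (c : f.comp e = ef) (c' : f'.comp e' = ef') : ClBC w K :=
  BC.vcomp (clsq_vcoh w₁ w₂ w c c') h₂ h₁

theorem ClBC.of_vcomp {w : ef.comp k = g.comp ef'} {K : DCl Z}
    (h₂ : ClBC w₂ K) (hw : ClBC w K) (c : f.comp e = ef) (c' : f'.comp e' = ef') :
    ClBC w₁ ((clPushD e).obj K) :=
  BC.of_vcomp (clsq_vcoh w₁ w₂ w c c') h₂ hw

end vertical

end coh

end Groth.Agent.An.H891.ClSq
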