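import Groth.Agent.An.H891.ClSq
import Groth.Agent.An.H890.EpsBC
import Groth.Agent.An.H882.EpsCont
import Groth.Agent.An.H883.EpsLim
import Groth.Agent.An.H866.EtLH
import Groth.Agent.Sga4h.GSqEt

/-!
# The comparison square of a morphism of schemes over `ℂ`

* `gam f : epsPush X ⋙ push f ≅ clPush (mapC f) ⋙ epsPush S`;
* `Comp f K : Prop` for `K : DCoh.DEt X`: the comparison `(Rf_* K)^an ⟶ Rf(ℂ)_* K^an` is an isomorphism;
* composition `Comp.comp`, `Comp.of_comp`, `comp_iff_isIso`;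
* base change `Comp.base_change`.
-/

set_option autoImplicit false
set_option linter.unusedSectionVars false
open CategoryTheory CategoryTheory.Limits AlgebraicGeometry Opposite TopologicalSpace Topology An

attribute [local instance] HasDerivedCategory.standard

noncomputable section
namespace Groth.Agent.An.H891.CompSq

open Groth.Agent.Etrest.RDer3 Groth.Agent.Etrest.RDer4 Groth.Agent.Etrest.RDer5
  Groth.Agent.Etrest.DEtPush
  Groth.Agent.An.H884.ClBC Groth.Agent.An.H891.Geom Groth.Agent.An.H891.ClSq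
  Groth.Agent.An.H890.SqPush Groth.Agent.An.H890.EpsBC Groth.Agent.EtpbcB Pretriangulated

instance etaleLH : Fact An.EtaleLH :=
  ⟨by
    intro X Y _ _ _ g _ _
    exact Groth.Agent.An.H866.EtLH.isLocalHomeomorph_map g⟩

section inst

variable (X : Scheme.{0}) [X.Over An.SC] [LocallyOfFiniteType (X ↘ An.SC)]

instance epsCont : An.EpsCont X := Groth.Agent.An.H882.EpsCont.epsCont X

instance epsPull_lim : PreservesFiniteLimits (An.epsPull X) :=
  Groth.Agent.An.H883.EpsLim.preservesFiniteLimits_epsPull X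

instance epsPush_lim : PreservesFiniteLimits (An.epsPush X) :=
  have : PreservesLimitsOfSize.{0, 0} (An.epsPush X) := (An.epsAdj X).rightAdjoint_preservesLimits
  PreservesLimitsOfSize.preservesFiniteLimits _

/-- The geometric morphism `ε : X(ℂ)_cl → X_et`. -/
abbrev gEps : GM (Cl.Ab (An.Pts X)) (EtCoh.Ab X) where
  L := An.epsPull X
  R := An.epsPush X
  adj := An.epsAdj X
  addL := inferInstance
  addR := inferInstance
  lim := inferInstance
  colim := inferInstance
  limR := inferInstance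

/-- Analytification on derived categories. -/
abbrev epsD : DCoh.DEt X ⥤ DCl (An.Pts X) := (An.epsPull X).mapDerivedCategory

end inst

section et

variable {X S : Scheme.{0}}

instance push_lim (f : X ⟶ S) : PreservesFiniteLimits (EtCoh.push f) :=
  have : PreservesLimitsOfSize.{0, 0} (EtCoh.push f) :=
    (EtCoh.pullPushAdj f).rightAdjoint_preservesLimits
  PreservesLimitsOfSize.preservesFiniteLimits _

/-- The geometric morphism of étale sites. -/
abbrev gEt (f : X ⟶ S) : GM (EtCoh.Ab X) (EtCoh.Ab S) where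
  L := EtCoh.pull f
  R := EtCoh.push f
  adj := EtCoh.pullPushAdj f
  addL := inferInstance
  addR := inferInstance
  lim := inferInstance
  colim := inferInstance
  limR := inferInstance

theorem etBC_iff {X' Y' Y : Scheme.{0}} {f : X ⟶ Y} {g : Y' ⟶ Y} {f' : X' ⟶ Y'} {g' : X' ⟶ X}
    (w : g' ≫ f = f' ≫ g) (K : DCoh.DEt X) :
    BC (f := gEt f) (g := gEt g) (f' := gEt f') (g' := gEt g') (BCCalc.sq w) K ↔
      Groth.Agent.Sga4h.GSq.BC w K := Iff.rfl

end et

section basic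

variable {X S : Scheme.{0}} [X.Over An.SC] [S.Over An.SC] [LocallyOfFiniteType (X ↘ An.SC)]
  [LocallyOfFiniteType (S ↘ An.SC)] (f : X ⟶ S) [f.IsOver An.SC]

/-- The comparison of direct images. -/
abbrev gam : An.epsPush X ⋙ EtCoh.push f ≅ clPush (An.Pts.mapC f) ⋙ An.epsPush S :=
  sqPush (epsBC f) AddCommGrpCat.{1} S.smallEtaleTopology X.smallEtaleTopology
    (Cl.topology (An.Pts S)) (Cl.topology (An.Pts X))

lemma gam_hom_app_app (G : Cl.Ab (An.Pts X)) (U : S.Etale) :
    ((gam f).hom.app G).hom.app (op U) = G.obj.map ((epsBC f).inv.app U).op := rfl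

lemma gam_inv_app_app (G : Cl.Ab (An.Pts X)) (U : S.Etale) :
    ((gam f).inv.app G).hom.app (op U) = G.obj.map ((epsBC f).hom.app U).op := rfl

/-- The comparison `(Rf_* K)^an ⟶ Rf(ℂ)_* K^an` is an isomorphism. -/
def Comp (K : DCoh.DEt X) : Prop :=
  BC (f := gEt f) (g := gEps S) (f' := gCl (An.Pts.mapC f)) (g' := gEps X) (gam f) K

/-- The degree zero comparison `(f_* F)^an ⟶ f(ℂ)_* F^an`. -/
abbrev bet0 : EtCoh.push f ⋙ An.epsPull S ⟶ An.epsPull X ⋙ clPush (An.Pts.mapC f) :=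
  MateCalc.bcNat (An.epsAdj S) (An.epsAdj X) (gam f).hom

/-- The derived comparison. -/
abbrev bet : pushD f ⋙ epsD S ⟶ epsD X ⋙ clPushD (An.Pts.mapC f) := bcD (bet0 f)

theorem Comp_iff (K : DCoh.DEt X) : Comp f K ↔ IsIso ((bet f).app K) :=
  BC_iff (f := gEt f) (g := gEps S) (f' := gCl (An.Pts.mapC f)) (g' := gEps X) K

variable {f}

theorem Comp.of_iso {K L : DCoh.DEt X} (h : Comp f K) (e : K ≅ L) : Comp f L := BC.of_iso h e

theorem Comp.shift {K : DCoh.DEt X} (h : Comp f K) (n : ℤ) : Comp f (K⟦n⟧) := BC.shift h n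

theorem Comp.of_shift {K : DCoh.DEt X} {n : ℤ} (h : Comp f (K⟦n⟧)) : Comp f K := BC.of_shift h

theorem Comp.three {T : Triangle (DCoh.DEt X)} (hT : T ∈ distTriang _) (h₁ : Comp f T.obj₁)
    (h₂ : Comp f T.obj₂) : Comp f T.obj₃ := BC.three hT h₁ h₂

theorem Comp.one {T : Triangle (DCoh.DEt X)} (hT : T ∈ distTriang _) (h₂ : Comp f T.obj₂)
    (h₃ : Comp f T.obj₃) : Comp f T.obj₁ := BC.one hT h₂ h₃

theorem Comp.two {T : Triangle (DCoh.DEt X)} (hT : T ∈ distTriang _) (h₁ : Comp f T.obj₁)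
    (h₃ : Comp f T.obj₃) : Comp f T.obj₂ := BC.two hT h₁ h₃

theorem Comp.of_isZero {K : DCoh.DEt X} (hK : IsZero K) : Comp f K := BC.of_isZero hK

theorem Comp.of_retract {K L : DCoh.DEt X} (h : Comp f L) (e : Retract K L) : Comp f K :=
  BC.of_retract h e

/-- Way-out: `K` bounded below, comparison for the cohomology sheaves. -/
theorem comp_of_homology (K : DCoh.DEt X) (a : ℤ) [K.IsGE a]
    (h : ∀ n : ℤ, Comp f ((DerivedCategory.singleFunctor (EtCoh.Ab X) 0).obj (DCoh.HDEt K n))) :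
    Comp f K := bc_of_homology₀ K a h

end basic

section comp

variable {Z X S : Scheme.{0}} [Z.Over An.SC] [X.Over An.SC] [S.Over An.SC]
  [LocallyOfFiniteType (Z ↘ An.SC)] [LocallyOfFiniteType (X ↘ An.SC)]
  [LocallyOfFiniteType (S ↘ An.SC)] (e : Z ⟶ X) (f : X ⟶ S) [e.IsOver An.SC] [f.IsOver An.SC]
  [(e ≫ f).IsOver An.SC]

omit [LocallyOfFiniteType (Z ↘ An.SC)] [LocallyOfFiniteType (X ↘ An.SC)]
  [LocallyOfFiniteType (S ↘ An.SC)] in
theorem mapC_comp : (An.Pts.mapC f).comp (An.Pts.mapC e) = An.Pts.mapC (e ≫ f) :=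
  ContinuousMap.ext fun x => (An.Pts.map_comp e f x).symm

set_option backward.isDefEq.respectTransparency.types false in
lemma eps_compIso (U : S.Etale) :
    (An.eps Z).map (BCCalc.compIso f e U).hom ≫ (epsBC e).hom.app ((EtCoh.bc f).obj U) ≫
        (clBC (An.Pts.mapC e)).map ((epsBC f).hom.app U) =
      (epsBC (e ≫ f)).hom.app U ≫
        (compIso' (An.Pts.mapC f) (An.Pts.mapC e) (mapC_comp e f)).inv.app ((An.eps S).obj U) := by
  apply hom_ext_pr₂
  intro z
  apply Subtype.ext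
  change ((z.1 ≫ (BCCalc.compIso f e U).hom.left) ≫ bcFst e _) ≫ bcFst f U =
    z.1 ≫ bcFst (e ≫ f) U
  have h := BCCalc.compIso_hom_left_pr f e U
  rw [Category.assoc, Category.assoc]
  exact congrArg (z.1 ≫ ·) h

set_option backward.isDefEq.respectTransparency.types false in
theorem gam_vcoh :
    VCoh (f := gEt f) (g := gEps S) (f' := gCl (An.Pts.mapC f)) (g' := gEps X) (e := gEt e)
      (e' := gCl (An.Pts.mapC e)) (k := gEps Z) (ef := gEt (e ≫ f))
      (ef' := gCl (An.Pts.mapC (e ≫ f)))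
      (gam f) (gam e) (gam (e ≫ f)) (EtCoh.pushComp f e)
      (clPushComp' (An.Pts.mapC f) (An.Pts.mapC e) (mapC_comp e f)) := by
  intro G
  apply BCCalc.ab_hom_ext
  intro U
  change G.obj.map ((An.eps Z).map (BCCalc.compIso f e U).hom).op ≫
      G.obj.map ((epsBC (e ≫ f)).inv.app U).op =
    G.obj.map ((epsBC e).inv.app ((EtCoh.bc f).obj U)).op ≫
      G.obj.map ((clBC (An.Pts.mapC e)).map ((epsBC f).inv.app U)).op ≫
      G.obj.map ((compIso' (An.Pts.mapC f) (An.Pts.mapC e) (mapC_comp e f)).inv.app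
        ((An.eps S).obj U)).op
  rw [← Functor.map_comp, ← Functor.map_comp, ← Functor.map_comp, ← op_comp, ← op_comp, ← op_comp]
  congr 2
  rw [← cancel_epi ((epsBC (e ≫ f)).hom.app U), Iso.hom_inv_id_app_assoc]
  have h1 := eps_compIso e f U
  have h2 : (clBC (An.Pts.mapC e)).map ((epsBC f).hom.app U) ≫
      (clBC (An.Pts.mapC e)).map ((epsBC f).inv.app U) = 𝟙 _ := by
    rw [← Functor.map_comp, Iso.hom_inv_id_app]
    exact CategoryTheory.Functor.map_id _ _
  have h3 : (epsBC e).hom.app ((EtCoh.bc f).obj U) ≫ (epsBC e).inv.app ((EtCoh.bc f).obj U) = 𝟙 _ :=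
    Iso.hom_inv_id_app _ _
  rw [Category.assoc, ← reassoc_of% h1, reassoc_of% h2, h3]
  exact (Category.comp_id _).symm

variable {e f}

/-- Composition. -/
theorem Comp.comp {K : DCoh.DEt Z} (h₂ : Comp e K) (h₁ : Comp f ((pushD e).obj K)) :
    Comp (e ≫ f) K :=
  BC.vcomp (gam_vcoh e f) h₂ h₁

theorem Comp.of_comp {K : DCoh.DEt Z} (h₂ : Comp e K) (h : Comp (e ≫ f) K) :
    Comp f ((pushD e).obj K) :=
  BC.of_vcomp (gam_vcoh e f) h₂ h

theorem comp_iff_isIso {K : DCoh.DEt Z} (h₁ : Comp f ((pushD e).obj K)) :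
    Comp (e ≫ f) K ↔ IsIso ((clPushD (An.Pts.mapC f)).map ((bet e).app K)) :=
  bc_comp_iff_isIso (gam_vcoh e f) h₁

end comp

section cube

lemma map3 {C D : Type*} [Category* C] [Category* D] (P : Cᵒᵖ ⥤ D) {x y z t : C} (a : x ⟶ y)
    (b : y ⟶ z) (c : z ⟶ t) : P.map c.op ≫ P.map b.op ≫ P.map a.op = P.map (a ≫ b ≫ c).op := by
  rw [← Functor.map_comp, ← Functor.map_comp, ← op_comp, ← op_comp, Category.assoc]

variable {X Y X' Y' : Scheme.{0}} [X.Over An.SC] [Y.Over An.SC] [X'.Over An.SC] [Y'.Over An.SC]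
  [LocallyOfFiniteType (X ↘ An.SC)] [LocallyOfFiniteType (Y ↘ An.SC)]
  [LocallyOfFiniteType (X' ↘ An.SC)] [LocallyOfFiniteType (Y' ↘ An.SC)]
  {f : X ⟶ Y} {g : Y' ⟶ Y} {f' : X' ⟶ Y'} {g' : X' ⟶ X}
  [f.IsOver An.SC] [g.IsOver An.SC] [f'.IsOver An.SC] [g'.IsOver An.SC]

omit [LocallyOfFiniteType (X ↘ An.SC)] [LocallyOfFiniteType (Y ↘ An.SC)]
  [LocallyOfFiniteType (X' ↘ An.SC)] [LocallyOfFiniteType (Y' ↘ An.SC)] in
theorem mapC_sq (w : g' ≫ f = f' ≫ g) :
    (An.Pts.mapC f).comp (An.Pts.mapC g') = (An.Pts.mapC g).comp (An.Pts.mapC f') :=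
  ContinuousMap.ext fun x => Subtype.ext (by
    change (x.1 ≫ g') ≫ f = (x.1 ≫ f') ≫ g
    rw [Category.assoc, Category.assoc, w])

/-- The square of direct images of the diagonal of the cube. -/
def diagSq (w : g' ≫ f = f' ≫ g) :
    ((gEps X').comp (gEt g')).R ⋙ (gEt f).R ≅
      (gCl (An.Pts.mapC f')).R ⋙ ((gEps Y').comp (gEt g)).R :=
  Functor.associator _ _ _ ≪≫ Functor.isoWhiskerLeft (An.epsPush X') (BCCalc.sq w) ≪≫
    (Functor.associator _ _ _).symm ≪≫ Functor.isoWhiskerRight (gam f') (EtCoh.push g) ≪≫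
    Functor.associator _ _ _

theorem diagSq_hom_app (w : g' ≫ f = f' ≫ g) (G : Cl.Ab (An.Pts X')) :
    (diagSq w).hom.app G = (BCCalc.sq w).hom.app ((An.epsPush X').obj G) ≫
      (EtCoh.push g).map ((gam f').hom.app G) := by
  simp only [diagSq, Iso.trans_hom, NatTrans.comp_app, Functor.associator_hom_app,
    Functor.associator_inv_app, Functor.isoWhiskerLeft_hom, Functor.isoWhiskerRight_hom,
    Functor.whiskerLeft_app, Functor.whiskerRight_app, Iso.symm_hom]
  erw [Category.id_comp, Category.id_comp, Category.comp_id]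

/-- Étale square followed by the comparison. -/
theorem hcoh_et (w : g' ≫ f = f' ≫ g) :
    HCoh (f := gEt f) (g := gEt g) (f' := gEt f') (g' := gEt g') (h := gEps Y') (h' := gEps X')
      (f'' := gCl (An.Pts.mapC f')) (gh := (gEps Y').comp (gEt g)) (gh' := (gEps X').comp (gEt g'))
      (BCCalc.sq w) (gam f') (diagSq w) (Iso.refl _) (Iso.refl _) := by
  intro G
  rw [diagSq_hom_app]
  simp only [Iso.refl_hom, NatTrans.id_app]
  erw [CategoryTheory.Functor.map_id, Category.id_comp]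

set_option backward.isDefEq.respectTransparency.types false in
lemma eps_theta (w : g' ≫ f = f' ≫ g) (U : Y.Etale) :
    (An.eps X').map (BCCalc.theta w U).hom ≫ (epsBC g').hom.app ((EtCoh.bc f).obj U) ≫
        (clBC (An.Pts.mapC g')).map ((epsBC f).hom.app U) =
      (epsBC f').hom.app ((EtCoh.bc g).obj U) ≫
        (clBC (An.Pts.mapC f')).map ((epsBC g).hom.app U) ≫
          (ClSq.theta (mapC_sq w)).inv.app ((An.eps Y).obj U) := by
  apply hom_ext_pr₂
  intro z
  apply Subtype.ext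
  change ((z.1 ≫ (BCCalc.theta w U).hom.left) ≫ bcFst g' _) ≫ bcFst f U =
    (z.1 ≫ bcFst f' _) ≫ bcFst g U
  have h := BCCalc.theta_hom_left_pr w U
  rw [Category.assoc, Category.assoc, Category.assoc]
  exact congrArg (z.1 ≫ ·) h

set_option backward.isDefEq.respectTransparency.types false in
/-- The comparison followed by the analytic square. -/
theorem hcoh_an (w : g' ≫ f = f' ≫ g) :
    HCoh (f := gEt f) (g := gEps Y) (f' := gCl (An.Pts.mapC f)) (g' := gEps X)
      (h := gCl (An.Pts.mapC g)) (h' := gCl (An.Pts.mapC g'))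
      (f'' := gCl (An.Pts.mapC f')) (gh := (gEps Y').comp (gEt g)) (gh' := (gEps X').comp (gEt g'))
      (gam f) (clsq (mapC_sq w)) (diagSq w) (gam g).symm (gam g').symm := by
  intro G
  rw [diagSq_hom_app]
  apply BCCalc.ab_hom_ext
  intro U
  have e0 : ((BCCalc.sq w).hom.app ((An.epsPush X').obj G)).hom.app (op U) =
      G.obj.map ((An.eps X').map (BCCalc.theta w U).hom).op :=
    BCCalc.sq_hom_app_app w ((An.epsPush X').obj G) U
  change G.obj.map ((epsBC g').hom.app ((EtCoh.bc f).obj U)).op ≫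
      ((BCCalc.sq w).hom.app ((An.epsPush X').obj G)).hom.app (op U) ≫
      G.obj.map ((epsBC f').inv.app ((EtCoh.bc g).obj U)).op =
    G.obj.map ((clBC (An.Pts.mapC g')).map ((epsBC f).inv.app U)).op ≫
      G.obj.map ((ClSq.theta (mapC_sq w)).inv.app ((An.eps Y).obj U)).op ≫
      G.obj.map ((clBC (An.Pts.mapC f')).map ((epsBC g).hom.app U)).op
  rw [e0]
  refine (map3 G.obj ((epsBC f').inv.app ((EtCoh.bc g).obj U))
    ((An.eps X').map (BCCalc.theta w U).hom) ((epsBC g').hom.app ((EtCoh.bc f).obj U))).trans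
    (Eq.trans ?_ (map3 G.obj ((clBC (An.Pts.mapC f')).map ((epsBC g).hom.app U))
      ((ClSq.theta (mapC_sq w)).inv.app ((An.eps Y).obj U))
      ((clBC (An.Pts.mapC g')).map ((epsBC f).inv.app U))).symm)
  congr 2
  have h1 := eps_theta w U
  have h2 : (clBC (An.Pts.mapC g')).map ((epsBC f).hom.app U) ≫
      (clBC (An.Pts.mapC g')).map ((epsBC f).inv.app U) = 𝟙 _ := by
    rw [← Functor.map_comp, Iso.hom_inv_id_app]
    exact CategoryTheory.Functor.map_id _ _
  rw [← cancel_epi ((epsBC f').hom.app ((EtCoh.bc g).obj U))]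
  have h3 : (epsBC f').hom.app ((EtCoh.bc g).obj U) ≫ (epsBC f').inv.app ((EtCoh.bc g).obj U) =
    𝟙 _ := Iso.hom_inv_id_app _ _
  rw [reassoc_of% h3, ← reassoc_of% h1, h2]
  exact congrArg (_ ≫ ·) (Category.comp_id _).symm

/-- Base change for the diagonal of the cube. -/
def DiagBC (w : g' ≫ f = f' ≫ g) (K : DCoh.DEt X) : Prop :=
  BC (f := gEt f) (g := (gEps Y').comp (gEt g)) (f' := gCl (An.Pts.mapC f'))
    (g' := (gEps X').comp (gEt g')) (diagSq w) K

variable {w : g' ≫ f = f' ≫ g} {K : DCoh.DEt X}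

theorem DiagBC.of_et (h₁ : Groth.Agent.Sga4h.GSq.BC w K) (h₂ : Comp f' ((pullD g').obj K)) :
    DiagBC w K := BC.hcomp (hcoh_et w) h₁ h₂

theorem DiagBC.comp' (h₁ : Groth.Agent.Sga4h.GSq.BC w K) (h : DiagBC w K) :
    Comp f' ((pullD g').obj K) := BC.of_hcomp (hcoh_et w) h₁ h

theorem DiagBC.of_an (h₁ : Comp f K) (h₂ : ClBC (mapC_sq w) ((epsD X).obj K)) :
    DiagBC w K := BC.hcomp (hcoh_an w) h₁ h₂

theorem DiagBC.clBC (h₁ : Comp f K) (h : DiagBC w K) :
    ClBC (mapC_sq w) ((epsD X).obj K) := BC.of_hcomp (hcoh_an w) h₁ h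

/-- **Base change of the comparison.** -/
theorem Comp.base_change (w : g' ≫ f = f' ≫ g) (h : Comp f K)
    (h₁ : Groth.Agent.Sga4h.GSq.BC w K)
    (h₂ : ClBC (mapC_sq w) ((epsD X).obj K)) : Comp f' ((pullD g').obj K) :=
  DiagBC.comp' h₁ (DiagBC.of_an h h₂)

end cube

end Groth.Agent.An.H891.CompSq
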