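import Groth.Agent.An.H891.CompLoc
import Groth.Agent.An.H449.CompEt
import Groth.Agent.An.H862.Asm4219

/-!
# The comparison of direct images as a relation `CP s f K`

For `s : Y ⟶ Spec ℂ`, `f : X ⟶ Y`, `K : DCoh.DEt X`, `CP s f K` says that the comparison
`(Rf_* K)^an ⟶ Rf(ℂ)_* K^an` is an isomorphism for the structures `s`, `f ≫ s` over `Spec ℂ`. We prove
the formal fields of `CompCalc`.
-/

set_option autoImplicit false
set_option linter.unusedSectionVars false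
open CategoryTheory CategoryTheory.Limits AlgebraicGeometry Opposite TopologicalSpace Topology An

attribute [local instance] HasDerivedCategory.standard

noncomputable section
namespace Groth.Agent.An.H891.Fields

open Groth.Agent.Etrest.RDer3 Groth.Agent.Etrest.RDer4 Groth.Agent.Etrest.RDer5
  Groth.Agent.Etrest.DEtPush
  Groth.Agent.An.H884.ClBC Groth.Agent.An.H891.Geom Groth.Agent.An.H891.ClSq
  Groth.Agent.An.H891.CompSq Groth.Agent.An.H891.CompLoc Groth.Agent.Sga4h.IndCalc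
  Groth.Agent.Sga4h.AdmCx Groth.Agent.An.H862.Asm4219 Pretriangulated

/-- The comparison, with explicit structure morphisms. -/
def CompX {X Y : Scheme.{0}} (sX : X ⟶ An.SC) (sY : Y ⟶ An.SC) (f : X ⟶ Y) (h : f ≫ sY = sX)
    [LocallyOfFiniteType sX] [LocallyOfFiniteType sY] (K : DCoh.DEt X) : Prop :=
  letI : X.Over An.SC := ⟨sX⟩
  letI : Y.Over An.SC := ⟨sY⟩
  haveI : LocallyOfFiniteType (X ↘ An.SC) := ‹LocallyOfFiniteType sX›
  haveI : LocallyOfFiniteType (Y ↘ An.SC) := ‹LocallyOfFiniteType sY›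
  haveI : f.IsOver An.SC := ⟨h⟩
  Comp f K

theorem CompX.iff_comp {X Y : Scheme.{0}} [X.Over An.SC] [Y.Over An.SC]
    [LocallyOfFiniteType (X ↘ An.SC)] [LocallyOfFiniteType (Y ↘ An.SC)] (f : X ⟶ Y)
    [f.IsOver An.SC] (K : DCoh.DEt X) :
    CompX (X ↘ An.SC) (Y ↘ An.SC) f (comp_over f An.SC) K ↔ Comp f K := Iff.rfl

theorem CompX.cast {X Y : Scheme.{0}} {sX sX' : X ⟶ An.SC} {sY sY' : Y ⟶ An.SC} {f : X ⟶ Y}
    {h : f ≫ sY = sX} {h' : f ≫ sY' = sX'} [LocallyOfFiniteType sX] [LocallyOfFiniteType sY]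
    [LocallyOfFiniteType sX'] [LocallyOfFiniteType sY'] {K : DCoh.DEt X} (eX : sX = sX')
    (eY : sY = sY') (hc : CompX sX sY f h K) : CompX sX' sY' f h' K := by
  subst eX eY
  exact hc

/-- To prove `CP` it suffices to prove `Comp`. -/
theorem cp_of {X Y : Scheme.{0}} (s : Y ⟶ An.SC) (f : X ⟶ Y) (K : DCoh.DEt X)
    (h : ∀ [X.Over An.SC] [Y.Over An.SC] [LocallyOfFiniteType (X ↘ An.SC)]
      [LocallyOfFiniteType (Y ↘ An.SC)] [f.IsOver An.SC] [FT f],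
      Y ↘ An.SC = s → Comp f K) : CP s f K := by
  intro _ _ _
  let _ : X.Over An.SC := ⟨f ≫ s⟩
  let _ : Y.Over An.SC := ⟨s⟩
  have : LocallyOfFiniteType (X ↘ An.SC) := inferInstanceAs (LocallyOfFiniteType (f ≫ s))
  have : LocallyOfFiniteType (Y ↘ An.SC) := inferInstanceAs (LocallyOfFiniteType s)
  have : f.IsOver An.SC := ⟨rfl⟩
  have : FT f := FT.of f
  exact h rfl

/-- `Comp` from `CP`. -/
theorem cp_comp_inst {X Y : Scheme.{0}} [X.Over An.SC] [Y.Over An.SC]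
    [LocallyOfFiniteType (X ↘ An.SC)] [LocallyOfFiniteType (Y ↘ An.SC)] {f : X ⟶ Y}
    [f.IsOver An.SC] {s : Y ⟶ An.SC} (hs : Y ↘ An.SC = s) [FT f] {K : DCoh.DEt X}
    (h : CP s f K) : Comp f K := by
  subst hs
  have h1 : CompX (X ↘ An.SC) (Y ↘ An.SC) f (comp_over f An.SC) K :=
    CompX.cast (h := rfl) (comp_over f An.SC) rfl h
  exact h1

section fields

variable {X Y Z : Scheme.{0}}

theorem cp_of_iso {s : Y ⟶ An.SC} {f : X ⟶ Y} {K L : DCoh.DEt X} (e : K ≅ L) (h : CP s f K) :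
    CP s f L :=
  cp_of s f L fun hs => (cp_comp_inst hs h).of_iso e

theorem cp_zero (s : Y ⟶ An.SC) (f : X ⟶ Y) (K : DCoh.DEt X) (hK : IsZero K) : CP s f K :=
  cp_of s f K fun _ => Comp.of_isZero hK

theorem cp_retract {s : Y ⟶ An.SC} {f : X ⟶ Y} {K L : DCoh.DEt X} (i : K ⟶ L) (r : L ⟶ K)
    (w : i ≫ r = 𝟙 K) (h : CP s f L) : CP s f K :=
  cp_of s f K fun hs => (cp_comp_inst hs h).of_retract ⟨i, r, w⟩

theorem cp_shift {s : Y ⟶ An.SC} {f : X ⟶ Y} {K : DCoh.DEt X} (h : CP s f K) (n : ℤ) :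
    CP s f (K⟦n⟧) :=
  cp_of s f _ fun hs => (cp_comp_inst hs h).shift n

theorem cp_of_shift {s : Y ⟶ An.SC} {f : X ⟶ Y} {K : DCoh.DEt X} {n : ℤ} (h : CP s f (K⟦n⟧)) :
    CP s f K :=
  cp_of s f _ fun hs => (cp_comp_inst hs h).of_shift

theorem cp_one {s : Y ⟶ An.SC} {f : X ⟶ Y} {T : Triangle (DCoh.DEt X)}
    (hT : T ∈ (distTriang (DCoh.DEt X))) (h₂ : CP s f T.obj₂) (h₃ : CP s f T.obj₃) :
    CP s f T.obj₁ :=
  cp_of s f _ fun hs => Comp.one hT (cp_comp_inst hs h₂) (cp_comp_inst hs h₃)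

theorem cp_two {s : Y ⟶ An.SC} {f : X ⟶ Y} {T : Triangle (DCoh.DEt X)}
    (hT : T ∈ (distTriang (DCoh.DEt X))) (h₁ : CP s f T.obj₁) (h₃ : CP s f T.obj₃) :
    CP s f T.obj₂ :=
  cp_of s f _ fun hs => Comp.two hT (cp_comp_inst hs h₁) (cp_comp_inst hs h₃)

theorem cp_three {s : Y ⟶ An.SC} {f : X ⟶ Y} {T : Triangle (DCoh.DEt X)}
    (hT : T ∈ (distTriang (DCoh.DEt X))) (h₁ : CP s f T.obj₁) (h₂ : CP s f T.obj₂) :
    CP s f T.obj₃ :=
  cp_of s f _ fun hs => Comp.three hT (cp_comp_inst hs h₁) (cp_comp_inst hs h₂)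

theorem cp_comp {s : Z ⟶ An.SC} {g : Y ⟶ Z} {f : X ⟶ Y} [FT s] [FT g] [FT f] {K : DCoh.DEt X}
    (h₂ : CP (g ≫ s) f K) (h₁ : CP s g ((pushD f).obj K)) : CP s (f ≫ g) K := by
  intro _ _ _
  have h₂' : CompX ((f ≫ g) ≫ s) (g ≫ s) f (Category.assoc _ _ _).symm K :=
    CompX.cast (h := rfl) (Category.assoc _ _ _).symm rfl h₂
  let _ : X.Over An.SC := ⟨(f ≫ g) ≫ s⟩
  let _ : Y.Over An.SC := ⟨g ≫ s⟩
  let _ : Z.Over An.SC := ⟨s⟩
  have : LocallyOfFiniteType (X ↘ An.SC) := inferInstanceAs (LocallyOfFiniteType ((f ≫ g) ≫ s))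
  have : LocallyOfFiniteType (Y ↘ An.SC) := inferInstanceAs (LocallyOfFiniteType (g ≫ s))
  have : LocallyOfFiniteType (Z ↘ An.SC) := inferInstanceAs (LocallyOfFiniteType s)
  have : f.IsOver An.SC := ⟨(Category.assoc _ _ _).symm⟩
  have : g.IsOver An.SC := ⟨rfl⟩
  have : (f ≫ g).IsOver An.SC := ⟨rfl⟩
  exact Comp.comp (e := f) (f := g) (K := K) h₂' h₁

theorem cp_of_comp {s : Z ⟶ An.SC} {g : Y ⟶ Z} {f : X ⟶ Y} [FT s] [FT g] [FT f] {K : DCoh.DEt X}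
    (h₂ : CP (g ≫ s) f K) (h : CP s (f ≫ g) K) : CP s g ((pushD f).obj K) := by
  intro _ _ _
  have h₂' : CompX ((f ≫ g) ≫ s) (g ≫ s) f (Category.assoc _ _ _).symm K :=
    CompX.cast (h := rfl) (Category.assoc _ _ _).symm rfl h₂
  let _ : X.Over An.SC := ⟨(f ≫ g) ≫ s⟩
  let _ : Y.Over An.SC := ⟨g ≫ s⟩
  let _ : Z.Over An.SC := ⟨s⟩
  have : LocallyOfFiniteType (X ↘ An.SC) := inferInstanceAs (LocallyOfFiniteType ((f ≫ g) ≫ s))
  have : LocallyOfFiniteType (Y ↘ An.SC) := inferInstanceAs (LocallyOfFiniteType (g ≫ s))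
  have : LocallyOfFiniteType (Z ↘ An.SC) := inferInstanceAs (LocallyOfFiniteType s)
  have : f.IsOver An.SC := ⟨(Category.assoc _ _ _).symm⟩
  have : g.IsOver An.SC := ⟨rfl⟩
  have : (f ≫ g).IsOver An.SC := ⟨rfl⟩
  exact Comp.of_comp (e := f) (f := g) (K := K) h₂' h

/-- Restriction of the target to an étale `Y`-scheme. -/
theorem cp_pull_etale {X' Y' : Scheme.{0}} {s : Y ⟶ An.SC} {f : X ⟶ Y} [LocallyOfFiniteType s]
    [FT f] (g : Y' ⟶ Y) [Etale g] (f' : X' ⟶ Y') (g' : X' ⟶ X)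
    (h : IsPullback g' f' f g) {K : DCoh.DEt X} (hP : CP s f K) :
    CP (g ≫ s) f' ((pullD g').obj K) := by
  intro _ _ _
  have e : g' ≫ f ≫ s = f' ≫ g ≫ s := by rw [← Category.assoc, h.w, Category.assoc]
  let _ : X.Over An.SC := ⟨f ≫ s⟩
  let _ : Y.Over An.SC := ⟨s⟩
  let _ : X'.Over An.SC := ⟨f' ≫ g ≫ s⟩
  let _ : Y'.Over An.SC := ⟨g ≫ s⟩
  have : LocallyOfFiniteType (X ↘ An.SC) := inferInstanceAs (LocallyOfFiniteType (f ≫ s))
  have : LocallyOfFiniteType (Y ↘ An.SC) := inferInstanceAs (LocallyOfFiniteType s)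
  have : LocallyOfFiniteType (X' ↘ An.SC) := inferInstanceAs (LocallyOfFiniteType (f' ≫ g ≫ s))
  have : LocallyOfFiniteType (Y' ↘ An.SC) := inferInstanceAs (LocallyOfFiniteType (g ≫ s))
  have : f.IsOver An.SC := ⟨rfl⟩
  have : g.IsOver An.SC := ⟨rfl⟩
  have : f'.IsOver An.SC := ⟨rfl⟩
  have : g'.IsOver An.SC := ⟨e⟩
  exact Groth.Agent.An.H449.CompEt.base_change_etale h (K := K) hP

/-- Restriction of the target to an open. -/
theorem cp_pull_target {X' Y' : Scheme.{0}} {s : Y ⟶ An.SC} {f : X ⟶ Y} [LocallyOfFiniteType s]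
    [FT f] (j : Y' ⟶ Y) [IsOpenImmersion j] (f' : X' ⟶ Y') (j' : X' ⟶ X)
    (h : IsPullback j' f' f j) {K : DCoh.DEt X} (hP : CP s f K) :
    CP (j ≫ s) f' ((pullD j').obj K) := cp_pull_etale j f' j' h hP

/-- `CP` is local on the target. -/
theorem cp_target (s : Y ⟶ An.SC) (f : X ⟶ Y) [LocallyOfFiniteType s] [FT f]
    {ι : Type} (Y' X' : ι → Scheme.{0}) (j : ∀ i, Y' i ⟶ Y) [∀ i, IsOpenImmersion (j i)]
    (f' : ∀ i, X' i ⟶ Y' i) (j' : ∀ i, X' i ⟶ X) (h : ∀ i, IsPullback (j' i) (f' i) f (j i))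
    (hj : ∀ y : Y, ∃ i, y ∈ Set.range (j i)) (K : DCoh.DEt X)
    (hP : ∀ i, CP (j i ≫ s) (f' i) ((pullD (j' i)).obj K)) : CP s f K := by
  intro _ _ _
  have e : ∀ i, j' i ≫ f ≫ s = f' i ≫ j i ≫ s := fun i => by
    rw [← Category.assoc, (h i).w, Category.assoc]
  have i1 : ∀ i, LocallyOfFiniteType (f' i) := fun i =>
    MorphismProperty.of_isPullback (P := @LocallyOfFiniteType) (h i) inferInstance
  have i2 : ∀ i, QuasiCompact (f' i) := fun i =>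
    MorphismProperty.of_isPullback (P := @QuasiCompact) (h i) inferInstance
  let _ : X.Over An.SC := ⟨f ≫ s⟩
  let _ : Y.Over An.SC := ⟨s⟩
  let _ : ∀ i, (X' i).Over An.SC := fun i => ⟨f' i ≫ j i ≫ s⟩
  let _ : ∀ i, (Y' i).Over An.SC := fun i => ⟨j i ≫ s⟩
  have : LocallyOfFiniteType (X ↘ An.SC) := inferInstanceAs (LocallyOfFiniteType (f ≫ s))
  have : LocallyOfFiniteType (Y ↘ An.SC) := inferInstanceAs (LocallyOfFiniteType s)
  have : ∀ i, LocallyOfFiniteType (X' i ↘ An.SC) := fun i =>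
    inferInstanceAs (LocallyOfFiniteType (f' i ≫ j i ≫ s))
  have : ∀ i, LocallyOfFiniteType (Y' i ↘ An.SC) := fun i =>
    inferInstanceAs (LocallyOfFiniteType (j i ≫ s))
  have : f.IsOver An.SC := ⟨rfl⟩
  have : ∀ i, (j i).IsOver An.SC := fun i => ⟨rfl⟩
  have : ∀ i, (f' i).IsOver An.SC := fun i => ⟨rfl⟩
  have : ∀ i, (j' i).IsOver An.SC := fun i => ⟨e i⟩
  exact Comp.of_cover (g := j) (f' := f') (g' := j') (K := K) h hj (fun i => hP i)

end fields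

section build

variable (m : ℕ)

/-- The field `proper`, from the first class form. -/
theorem proper_of (H : ∀ {Y Z : Scheme.{0}} [Y.Over An.SC] [Z.Over An.SC]
      [LocallyOfFiniteType (Y ↘ An.SC)] [LocallyOfFiniteType (Z ↘ An.SC)] (g : Y ⟶ Z)
      [g.IsOver An.SC] [IsProper g] [QuasiCompact (Z ↘ An.SC)] (K : DCoh.DEt Y), Adm m K →
      Comp g K)
    {Y Z : Scheme.{0}} (s : Z ⟶ An.SC) (g : Y ⟶ Z) [FT s] [IsProper g] (K : DCoh.DEt Y)
    (hK : Adm m K) : CP s g K :=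
  cp_of s g K fun {_ _ _ _ _ _} hs => by
    have : QuasiCompact (Z ↘ An.SC) := by rw [hs]; infer_instance
    exact H g K hK

/-- The field `tstep`, from the first class form. -/
theorem tstep_of (H : ∀ {V W Q T V' S : Scheme.{0}} [V.Over An.SC] [W.Over An.SC] [Q.Over An.SC]
      [V'.Over An.SC] [S.Over An.SC] [LocallyOfFiniteType (V ↘ An.SC)]
      [LocallyOfFiniteType (W ↘ An.SC)] [LocallyOfFiniteType (Q ↘ An.SC)]
      [LocallyOfFiniteType (V' ↘ An.SC)] [LocallyOfFiniteType (S ↘ An.SC)]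
      [QuasiCompact (S ↘ An.SC)] (p : Q ⟶ S) [p.IsOver An.SC] [IsProper p] (w : W ⟶ Q)
      [w.IsOver An.SC] [IsOpenImmersion w] (t : T ⟶ Q) [IsClosedImmersion t]
      (_ : Set.range w = (Set.range t)ᶜ) (_ : IsFinite (t ≫ p)) (j : V ⟶ Q) [j.IsOver An.SC] [FT j]
      (j' : V' ⟶ W) (w' : V' ⟶ V) [j'.IsOver An.SC] [w'.IsOver An.SC] (_ : IsPullback w' j' j w)
      (K : DCoh.DEt V) (_ : Adm m K) (_ : Adm m ((pushD j).obj K))
      (_ : Comp j' ((pullD w').obj K)) (_ : Comp (j ≫ p) K) (_ : Comp p ((pushD j).obj K)),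
      Comp j K)
    {V W Q T V' S : Scheme.{0}} (s : S ⟶ An.SC) [FT s] (p : Q ⟶ S) [IsProper p] (w : W ⟶ Q)
    [IsOpenImmersion w] (t : T ⟶ Q) [IsClosedImmersion t] (hw : Set.range w = (Set.range t)ᶜ)
    (ht : IsFinite (t ≫ p)) (j : V ⟶ Q) [FT j] (j' : V' ⟶ W) (w' : V' ⟶ V)
    (h : IsPullback w' j' j w) (K : DCoh.DEt V) (hK : Adm m K) (hK' : Adm m ((pushD j).obj K))
    (h₁ : CP (w ≫ p ≫ s) j' ((pullD w').obj K)) (h₂ : CP s (j ≫ p) K)
    (h₃ : CP s p ((pushD j).obj K)) : CP (p ≫ s) j K := by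
  intro _ _ _
  have i1 : LocallyOfFiniteType j' :=
    MorphismProperty.of_isPullback (P := @LocallyOfFiniteType) h inferInstance
  have i2 : QuasiCompact j' :=
    MorphismProperty.of_isPullback (P := @QuasiCompact) h inferInstance
  let _ : V.Over An.SC := ⟨j ≫ p ≫ s⟩
  let _ : Q.Over An.SC := ⟨p ≫ s⟩
  let _ : S.Over An.SC := ⟨s⟩
  let _ : W.Over An.SC := ⟨w ≫ p ≫ s⟩
  let _ : V'.Over An.SC := ⟨j' ≫ w ≫ p ≫ s⟩
  have : LocallyOfFiniteType (V ↘ An.SC) := inferInstanceAs (LocallyOfFiniteType (j ≫ p ≫ s))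
  have : LocallyOfFiniteType (Q ↘ An.SC) := inferInstanceAs (LocallyOfFiniteType (p ≫ s))
  have : LocallyOfFiniteType (S ↘ An.SC) := inferInstanceAs (LocallyOfFiniteType s)
  have : QuasiCompact (S ↘ An.SC) := inferInstanceAs (QuasiCompact s)
  have : LocallyOfFiniteType (W ↘ An.SC) := inferInstanceAs (LocallyOfFiniteType (w ≫ p ≫ s))
  have : LocallyOfFiniteType (V' ↘ An.SC) :=
    inferInstanceAs (LocallyOfFiniteType (j' ≫ w ≫ p ≫ s))
  have : p.IsOver An.SC := ⟨rfl⟩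
  have : w.IsOver An.SC := ⟨rfl⟩
  have : j.IsOver An.SC := ⟨rfl⟩
  have : j'.IsOver An.SC := ⟨rfl⟩
  have : w'.IsOver An.SC := ⟨by
    change w' ≫ j ≫ p ≫ s = j' ≫ w ≫ p ≫ s
    rw [← Category.assoc, h.w, Category.assoc]⟩
  have i3 : FT (j ≫ p) := FT.of _
  have e₂ : Comp (j ≫ p) K := cp_comp_inst rfl h₂
  exact H p w t hw ht j j' w' h K hK hK' h₁ e₂ h₃

open Groth.Agent.An.H495.CompCalc in
/-- The calculus of the comparison from its three non-formal fields. -/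
def compCalc (proper : ∀ {Y Z : Scheme.{0}} (s : Z ⟶ An.SC) (g : Y ⟶ Z) [FT s] [IsProper g]
      (K : DCoh.DEt Y), Adm m K → CP s g K)
    (tstep : ∀ {V W Q T V' S : Scheme.{0}} (s : S ⟶ An.SC) [FT s] (p : Q ⟶ S) [IsProper p]
      (w : W ⟶ Q) [IsOpenImmersion w] (t : T ⟶ Q) [IsClosedImmersion t],
      Set.range w = (Set.range t)ᶜ → IsFinite (t ≫ p) →
      ∀ (j : V ⟶ Q) [FT j] (j' : V' ⟶ W) (w' : V' ⟶ V), IsPullback w' j' j w →
      ∀ (K : DCoh.DEt V), Adm m K → Adm m ((pushD j).obj K) →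
        CP (w ≫ p ≫ s) j' ((pullD w').obj K) → CP s (j ≫ p) K → CP s p ((pushD j).obj K) →
        CP (p ≫ s) j K)
    (curve : ∀ {C Q E B : Scheme.{0}} (s : B ⟶ An.SC) [FT s] [Smooth s] (q : Q ⟶ B)
      [SmoothOfRelativeDimension 1 q] [QuasiCompact q] [QuasiSeparated q] (j : C ⟶ Q)
      [IsOpenImmersion j] (i : E ⟶ Q) [IsClosedImmersion i] [Etale (i ≫ q)],
      Set.range i = (Set.range j)ᶜ → ∀ ℓ : ℕ, ℓ.Prime → ℓ ∣ m →
      CP (q ≫ s) j ((DerivedCategory.singleFunctor _ 0).obj (EtCoh.const C (ZMod ℓ)))) :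
    CompCalc m where
  P := CP
  of_iso e h := cp_of_iso e h
  zero s f K hK := cp_zero s f K hK
  retract i r w h := cp_retract i r w h
  one hT h₂ h₃ := cp_one hT h₂ h₃
  three hT h₁ h₂ := cp_three hT h₁ h₂
  comp h₂ h₁ := cp_comp h₂ h₁
  of_comp h₂ h := cp_of_comp h₂ h
  proper := proper
  pull_target j _ f' j' h _ hP := cp_pull_target j f' j' h hP
  target s f _ _ _ Y' X' j _ f' j' h hj K hP := cp_target s f Y' X' j f' j' h hj K hP
  tstep := tstep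
  curve := curve

end build

end Groth.Agent.An.H891.Fields
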