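import Groth.Agent.An.H891.ClSq
import Groth.Agent.PerfB.DQAdj
import Mathlib.CategoryTheory.Limits.Preserves.Shapes.Zero

/-!
# Open embeddings and classical sites

For an open embedding `j : C(U, T)`:
* `clPost j : Cl U ⥤ Cl T`, composition with `j`, left adjoint of `clBC j`, continuous;
* `postPull j ≅ clPull j` preserves K-injective complexes (exactness of `j_!`);
* `clBC_of_isOpenEmbedding`: derived base change along an open embedding.
-/

set_option autoImplicit false
open CategoryTheory CategoryTheory.Limits Opposite TopologicalSpace Topology An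

attribute [local instance] HasDerivedCategory.standard

noncomputable section
namespace Groth.Agent.An.H891.ClOpen

open Groth.Agent.Etrest.RDer3 Groth.Agent.Etrest.RDer4 Groth.Agent.Etrest.RDer5
  Groth.Agent.An.H884.ClBC Groth.Agent.An.H891.Geom Groth.Agent.An.H891.ClSq
  Groth.Agent.An.H890.SqPush

section post

variable {U T : Type} [TopologicalSpace U] [TopologicalSpace T] (j : C(U, T))
  (hj : IsLocalHomeomorph j)

/-- Composition with a local homeomorphism. -/
def clPost : Cl U ⥤ Cl T where
  obj A := ⟨A.E, j ∘ A.p, hj.comp A.lh⟩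
  map h := ⟨h.toFun, h.continuous, fun a => congrArg j (h.over a)⟩
  map_id _ := rfl
  map_comp _ _ := rfl

/-- `clPost j ⊣ clBC j`. -/
def postAdj : clPost j hj ⊣ clBC j :=
  Adjunction.mkOfHomEquiv
    { homEquiv := fun A B =>
        { toFun := fun h => ⟨fun a => ⟨(A.p a, h.toFun a), (h.over a).symm⟩,
            Continuous.subtype_mk (A.lh.continuous.prodMk h.continuous) _, fun _ => rfl⟩
          invFun := fun h => ⟨fun a => pr j B (h.toFun a), (continuous_pr j B).comp h.continuous,
            fun a => by rw [pr_over, h.over]; rfl⟩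
          left_inv := fun _ => rfl
          right_inv := fun _ => hom_ext_pr j (fun _ => rfl) }
      homEquiv_naturality_left_symm := fun _ _ => rfl
      homEquiv_naturality_right := fun _ _ => rfl }

theorem coverPreserving_post :
    CoverPreserving (Cl.topology U) (Cl.topology T) (clPost j hj) where
  cover_preserve {A S} hS := by
    intro a
    obtain ⟨B, g, hSg, hg, b, hb⟩ := hS a
    exact ⟨(clPost j hj).obj B, (clPost j hj).map g, Sieve.image_mem_functorPushforward _ _ hSg,
      hg, b, hb⟩

theorem compatiblePreserving_post : CompatiblePreserving (Cl.topology T) (clPost j hj) where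
  compatible F {Z} R x hx {Y₁ Y₂ X} f₁ f₂ {g₁ g₂} hg₁ hg₂ h := by
    have hp : ∀ a : X.E, g₁.toFun (f₁.toFun a) = g₂.toFun (f₂.toFun a) := fun a =>
      congrFun (congrArg Cl.Hom.toFun h) a
    let W : Cl U := ⟨X.E, Y₁.p ∘ f₁.toFun, Y₁.lh.comp (isLocalHomeomorph_toFun f₁)⟩
    let e : (clPost j hj).obj W ⟶ X := ⟨id, continuous_id, fun a => (f₁.over a).symm⟩
    let e' : X ⟶ (clPost j hj).obj W := ⟨id, continuous_id, fun a => f₁.over a⟩
    let k₁ : W ⟶ Y₁ := ⟨f₁.toFun, f₁.continuous, fun _ => rfl⟩
    let k₂ : W ⟶ Y₂ := ⟨f₂.toFun, f₂.continuous, fun a => by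
      change Y₂.p (f₂.toFun a) = Y₁.p (f₁.toFun a)
      rw [← g₂.over, ← g₁.over, hp]⟩
    have h1 := hx k₁ k₂ hg₁ hg₂ (Cl.hom_ext (funext fun a => hp a))
    have h2 : F.obj.map f₁.op = F.obj.map ((clPost j hj).map k₁).op ≫ F.obj.map e'.op := by
      rw [← F.obj.map_comp, ← op_comp]
      rfl
    have h3 : F.obj.map f₂.op = F.obj.map ((clPost j hj).map k₂).op ≫ F.obj.map e'.op := by
      rw [← F.obj.map_comp, ← op_comp]
      rfl
    rw [h2, h3]
    exact congrArg (F.obj.map e'.op) h1

instance isContinuous_post : (clPost j hj).IsContinuous (Cl.topology U) (Cl.topology T) :=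
  Functor.isContinuous_of_coverPreserving (compatiblePreserving_post j hj)
    (coverPreserving_post j hj)

/-- Restriction along a local homeomorphism: `G ↦ (A ↦ G(A → U → T))`. -/
abbrev postPull : Cl.Ab T ⥤ Cl.Ab U :=
  (clPost j hj).sheafPushforwardContinuous AddCommGrpCat.{1} (Cl.topology U) (Cl.topology T)

/-- `postPull j ⊣ clPush j`. -/
def postPullAdj : postPull j hj ⊣ clPush j :=
  (postAdj j hj).sheafPushforwardContinuous (E := AddCommGrpCat.{1}) (Cl.topology U) (Cl.topology T)

/-- `clPull j ≅ postPull j`. -/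
def pullIsoPost : clPull j ≅ postPull j hj :=
  Adjunction.leftAdjointUniq (clAdj j) (postPullAdj j hj)

end post

section shriek

variable {U T : Type} [TopologicalSpace U] [TopologicalSpace T] (j : C(U, T))
  (hj : IsOpenEmbedding j)

/-- The lift of an object of `Cl T` whose structure map has values in `U`. -/
theorem exists_initial (V : Cl T) (h : Nonempty (StructuredArrow V (clPost j hj.isLocalHomeomorph))) :
    HasInitial (StructuredArrow V (clPost j hj.isLocalHomeomorph)) := by
  obtain ⟨X⟩ := h
  let W : Cl U := ⟨V.E, X.right.p ∘ X.hom.toFun, X.right.lh.comp (isLocalHomeomorph_toFun X.hom)⟩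
  let I : StructuredArrow V (clPost j hj.isLocalHomeomorph) :=
    StructuredArrow.mk (Y := W) (⟨id, continuous_id, fun a => X.hom.over a⟩ :
      V ⟶ (clPost j hj.isLocalHomeomorph).obj W)
  have hI : IsInitial I := IsInitial.ofUniqueHom (fun Y => StructuredArrow.homMk
    ⟨Y.hom.toFun, Y.hom.continuous, fun a => hj.injective (by
      have h1 := Y.hom.over a
      have h2 := X.hom.over a
      exact h1.trans h2.symm)⟩ (Cl.hom_ext rfl)) (fun Y m => by
        apply StructuredArrow.hom_ext
        apply Cl.hom_ext
        have h1 := congrArg Cl.Hom.toFun (StructuredArrow.w m)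
        exact h1)
  exact hI.hasInitial

set_option backward.isDefEq.respectTransparency.types false in
theorem preservesFiniteLimits_lan_post :
    PreservesFiniteLimits ((clPost j hj.isLocalHomeomorph).op.lan :
      (_ ⥤ AddCommGrpCat.{1}) ⥤ (Cl T)ᵒᵖ ⥤ AddCommGrpCat.{1}) := by
  constructor
  intro J _ _
  apply preservesLimitsOfShape_of_evaluation
  intro K
  have key : PreservesFiniteLimits (colim :
      (CostructuredArrow (clPost j hj.isLocalHomeomorph).op K ⥤ AddCommGrpCat.{1}) ⥤ _) := by
    by_cases h : Nonempty (StructuredArrow (unop K) (clPost j hj.isLocalHomeomorph))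
    · have h1 := exists_initial j hj (unop K) h
      have h2 : HasTerminal (StructuredArrow (unop K) (clPost j hj.isLocalHomeomorph))ᵒᵖ :=
        hasTerminal_op_of_hasInitial
      have h3 : IsFiltered (CostructuredArrow (clPost j hj.isLocalHomeomorph).op K) :=
        IsFiltered.of_equivalence
          (structuredArrowOpEquivalence (clPost j hj.isLocalHomeomorph) (unop K))
      have : HasFilteredColimitsOfSize.{0, 1} AddCommGrpCat.{1} :=
        hasFilteredColimitsOfSize_shrink.{0, 1, 1, 1}
      have : AB5OfSize.{0, 1} AddCommGrpCat.{1} := AB5OfSize_shrink.{0, 1, 1, 1} _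
      exact HasExactColimitsOfShape.preservesFiniteLimits
    · have h1 : IsEmpty (CostructuredArrow (clPost j hj.isLocalHomeomorph).op K) :=
        ⟨fun X => h ⟨((structuredArrowOpEquivalence (clPost j hj.isLocalHomeomorph)
          (unop K)).inverse.obj X).unop⟩⟩
      have h2 : IsZero (colim :
          (CostructuredArrow (clPost j hj.isLocalHomeomorph).op K ⥤ AddCommGrpCat.{1}) ⥤ _) := by
        rw [Functor.isZero_iff]
        intro F
        rw [IsZero.iff_id_eq_zero]
        exact colimit.hom_ext (fun X => (h1.false X).elim)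
      exact ⟨fun J _ _ => Functor.preservesLimitsOfShape_of_isZero _ h2 J⟩
  have : PreservesLimitsOfShape J ((Functor.whiskeringLeft _ _ AddCommGrpCat.{1}).obj
      (CostructuredArrow.proj (clPost j hj.isLocalHomeomorph).op K) ⋙ colim) := inferInstance
  exact preservesLimitsOfShape_of_natIso
    (Groth.Agent.Etbase.LanFlat.lanEvaluationIsoColim' _ _ _).symm

/-- `j_!` -/
abbrev shriek : Cl.Ab U ⥤ Cl.Ab T :=
  (clPost j hj.isLocalHomeomorph).sheafPullback AddCommGrpCat.{1} (Cl.topology U) (Cl.topology T)

/-- `j_! ⊣ j^*`. -/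
abbrev shriekAdj : shriek j hj ⊣ postPull j hj.isLocalHomeomorph :=
  (clPost j hj.isLocalHomeomorph).sheafAdjunctionContinuous AddCommGrpCat.{1} (Cl.topology U)
    (Cl.topology T)

set_option backward.isDefEq.respectTransparency.types false in
instance shriek_lim : PreservesFiniteLimits (shriek j hj) := by
  have h1 := preservesFiniteLimits_lan_post j hj
  have h2 : PreservesFiniteLimits ((clPost j hj.isLocalHomeomorph).op.lan ⋙
      presheafToSheaf (Cl.topology T) AddCommGrpCat.{1}) := comp_preservesFiniteLimits _ _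
  have h3 : PreservesFiniteLimits (Functor.sheafPullbackConstruction.sheafPullback
      (clPost j hj.isLocalHomeomorph) AddCommGrpCat.{1} (Cl.topology U) (Cl.topology T)) :=
    comp_preservesFiniteLimits (sheafToPresheaf (Cl.topology U) AddCommGrpCat.{1}) _
  exact preservesFiniteLimits_of_natIso
    (Functor.sheafPullbackConstruction.sheafPullbackIso (clPost j hj.isLocalHomeomorph)
      AddCommGrpCat.{1} (Cl.topology U) (Cl.topology T)).symm

instance shriek_colim : PreservesFiniteColimits (shriek j hj) :=
  have : PreservesColimitsOfSize.{0, 0} (shriek j hj) := (shriekAdj j hj).leftAdjoint_preservesColimits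
  PreservesColimitsOfSize.preservesFiniteColimits _

instance postPull_additive (h : IsLocalHomeomorph j) : (postPull j h).Additive where

instance shriek_additive : (shriek j hj).Additive := (shriekAdj j hj).left_adjoint_additive

/-- Restriction to an open preserves K-injective complexes. -/
theorem isKInjective_postPull (I : CochainComplex (Cl.Ab T) ℤ) [I.IsKInjective] :
    CochainComplex.IsKInjective
      (((postPull j hj.isLocalHomeomorph).mapHomologicalComplex (.up ℤ)).obj I) :=
  Groth.Agent.PerfB.DQAdj.isKInjective_mapCx (shriekAdj j hj) I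

end shriek

/-- A bijective morphism of the classical site is an isomorphism. -/
theorem isIso_of_bijective {T : Type} [TopologicalSpace T] {A B : Cl T} (h : A ⟶ B)
    (hb : Function.Bijective h.toFun) : IsIso h := by
  let e : A.E ≃ₜ B.E := (Equiv.ofBijective h.toFun hb).toHomeomorphOfContinuousOpen h.continuous
    (isLocalHomeomorph_toFun h).isOpenMap
  refine ⟨⟨e.symm, e.symm.continuous, fun b => ?_⟩, ?_, ?_⟩
  · have h1 := h.over (e.symm b)
    have h2 : h.toFun (e.symm b) = b := e.apply_symm_apply b
    rw [h2] at h1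
    exact h1.symm
  · exact Cl.hom_ext (funext fun a => e.symm_apply_apply a)
  · exact Cl.hom_ext (funext fun b => e.apply_symm_apply b)

section basechange

variable {X Y X' Y' : Type} [TopologicalSpace X] [TopologicalSpace Y] [TopologicalSpace X']
  [TopologicalSpace Y'] {f : C(X, Y)} {g : C(Y', Y)} {f' : C(X', Y')} {g' : C(X', X)}
  (w : f.comp g' = g.comp f')

/-- The base change morphism on objects: `g'_!(f'^* V) ⟶ f^*(g_! V)`. -/
def cHom (hg : IsLocalHomeomorph g) (hg' : IsLocalHomeomorph g') (V : Cl Y') :
    (clPost g' hg').obj ((clBC f').obj V) ⟶ (clBC f).obj ((clPost g hg).obj V) where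
  toFun q := ⟨(g' q.1.1, q.1.2), (w_apply w q.1.1).trans (congrArg g q.2)⟩
  continuous := Continuous.subtype_mk ((g'.continuous.comp
    (continuous_fst.comp continuous_subtype_val)).prodMk
      (continuous_snd.comp continuous_subtype_val)) _
  over _ := rfl

theorem bijective_cHom (hg : IsOpenEmbedding g) (hg' : IsOpenEmbedding g')
    (hr : ∀ x, f x ∈ Set.range g → x ∈ Set.range g') (V : Cl Y') :
    Function.Bijective (cHom w hg.isLocalHomeomorph hg'.isLocalHomeomorph V).toFun := by
  constructor
  · intro q q' h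
    have h1 : g' q.1.1 = g' q'.1.1 := congrArg (fun z => z.1.1) h
    have h2 : q.1.2 = q'.1.2 := congrArg (fun z => z.1.2) h
    exact Subtype.ext (Prod.ext (hg'.injective h1) h2)
  · rintro ⟨⟨x, v⟩, hx⟩
    have hx' : f x = g (V.p v) := hx
    obtain ⟨x', rfl⟩ := hr x ⟨_, hx'.symm⟩
    refine ⟨⟨(x', v), hg.injective ?_⟩, rfl⟩
    rw [← hx']
    exact (w_apply w x').symm

/-- The degree zero base change transformation for the restriction functors, on sections. -/
theorem bc_post_app (hg : IsLocalHomeomorph g) (hg' : IsLocalHomeomorph g') (F : Cl.Ab X)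
    (V : Cl Y') :
    (Groth.Agent.EtpbcB.MateCalc.bc (postPullAdj g hg) (postPullAdj g' hg')
      (clsq w).hom F).hom.app (op V) = F.obj.map (cHom w hg hg' V).op := by
  unfold Groth.Agent.EtpbcB.MateCalc.bc
  rw [Adjunction.homEquiv_counit]
  change (F.obj.map ((postAdj g' hg').counit.app ((clBC f).obj ((clPost g hg).obj V))).op ≫
      F.obj.map ((clPost g' hg').map ((theta w).inv.app ((clPost g hg).obj V))).op) ≫
      F.obj.map ((clPost g' hg').map ((clBC f').map ((postAdj g hg).unit.app V))).op = _
  rw [← Functor.map_comp, ← Functor.map_comp, ← op_comp, ← op_comp]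
  rfl

/-- Degree zero base change along an open embedding. -/
theorem isIso_bc0 (hg : IsOpenEmbedding g) (hg' : IsOpenEmbedding g')
    (hr : ∀ x, f x ∈ Set.range g → x ∈ Set.range g') (F : Cl.Ab X) :
    IsIso ((bc0 (f := gCl f) (g := gCl g) (f' := gCl f') (g' := gCl g') (clsq w)).app F) := by
  have h1 : IsIso (Groth.Agent.EtpbcB.MateCalc.bc (postPullAdj g hg.isLocalHomeomorph)
      (postPullAdj g' hg'.isLocalHomeomorph) (clsq w).hom F) := by
    have h2 : ∀ V : Cl Y', IsIso ((Groth.Agent.EtpbcB.MateCalc.bc
        (postPullAdj g hg.isLocalHomeomorph)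
        (postPullAdj g' hg'.isLocalHomeomorph) (clsq w).hom F).hom.app (op V)) := by
      intro V
      rw [bc_post_app]
      have h4 := isIso_of_bijective _ (bijective_cHom w hg hg' hr V)
      have h5 : IsIso (cHom w hg.isLocalHomeomorph hg'.isLocalHomeomorph V).op := inferInstance
      exact Functor.map_isIso F.obj _
    have h3 : IsIso ((sheafToPresheaf _ _).map (Groth.Agent.EtpbcB.MateCalc.bc
        (postPullAdj g hg.isLocalHomeomorph)
        (postPullAdj g' hg'.isLocalHomeomorph) (clsq w).hom F)) := by
      rw [NatTrans.isIso_iff_isIso_app]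
      exact fun V => h2 V.unop
    exact isIso_of_reflects_iso _ (sheafToPresheaf _ _)
  exact (Groth.Agent.An.H890.Mates.isIso_bcOf_iff
    (postPullAdj g' hg'.isLocalHomeomorph) (postPullAdj g hg.isLocalHomeomorph) (clsq w).hom
    (clAdj g') (clAdj g) (clsq w).hom (Iso.refl _) (Iso.refl _) (fun d => by
      simp only [Iso.refl_hom, NatTrans.id_app]
      erw [CategoryTheory.Functor.map_id, Category.id_comp]) F).1 h1

/-- Restriction to an open preserves K-injective complexes. -/
theorem isKInjective_clPull (hg : IsOpenEmbedding g) (I : CochainComplex (Cl.Ab Y) ℤ)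
    [I.IsKInjective] :
    CochainComplex.IsKInjective (((clPull g).mapHomologicalComplex (.up ℤ)).obj I) := by
  have h1 := isKInjective_postPull g hg I
  let e : (clPull g).mapHomologicalComplex (.up ℤ) ≅
      (postPull g hg.isLocalHomeomorph).mapHomologicalComplex (.up ℤ) :=
    NatIso.mapHomologicalComplex (pullIsoPost g hg.isLocalHomeomorph) (.up ℤ)
  exact CochainComplex.isKInjective_of_iso (e.app I).symm

theorem exists_kinj {A : Type*} [Category* A] [Abelian A] [HasKInj A] (K : DerivedCategory A) :
    ∃ I : CochainComplex A ℤ, I.IsKInjective ∧ Nonempty (K ≅ DerivedCategory.Q.obj I) := by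
  obtain ⟨L, ⟨e⟩⟩ : ∃ K' : CochainComplex A ℤ, Nonempty (DerivedCategory.Q.obj K' ≅ K) :=
    ⟨_, ⟨DerivedCategory.Q.objObjPreimageIso K⟩⟩
  obtain ⟨I, f, hI, hf⟩ := HasKInj.out L
  exact ⟨I, hI, ⟨e.symm ≪≫ asIso (DerivedCategory.Q.map f)⟩⟩

/-- **Derived base change along an open embedding.** -/
theorem clBC_of_isOpenEmbedding (hg : IsOpenEmbedding g) (hg' : IsOpenEmbedding g')
    (hr : ∀ x, f x ∈ Set.range g → x ∈ Set.range g') (K : DCl X) : ClBC w K := by
  rw [ClBC_iff]
  obtain ⟨I, hI, ⟨e⟩⟩ := exists_kinj K
  exact isIso_bcD_of_iso _ e.symm (isIso_bcD_Q _ I (isIso_unitQ_of_isKInjective _ I hI)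
    (isIso_unitQ_of_isKInjective _ _ (isKInjective_clPull hg' I))
    (fun i => isIso_bc0 w hg hg' hr (I.X i)))

end basechange

end Groth.Agent.An.H891.ClOpen
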