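import Groth.Agent.An.H891.CompSq
import Groth.Agent.An.H891.ClOpen
import Groth.Agent.An.H871.Imm
import Groth.Agent.An.H890.Conserv

/-!
# Zariski localization of the comparison

* `clBC_open`: analytic derived base change along open immersions;
* `Comp.restrict`: restriction to an open of the target;
* `Comp.of_cover`: the comparison is Zariski local on the target;
* `isIso_of_clPullD`: joint conservativity.
-/

set_option autoImplicit false
set_option linter.unusedSectionVars false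
open CategoryTheory CategoryTheory.Limits AlgebraicGeometry Opposite TopologicalSpace Topology An

attribute [local instance] HasDerivedCategory.standard

noncomputable section
namespace Groth.Agent.An.H891.CompLoc

open Groth.Agent.Etrest.RDer3 Groth.Agent.Etrest.RDer4 Groth.Agent.Etrest.RDer5
  Groth.Agent.Etrest.DEtPush
  Groth.Agent.An.H884.ClBC Groth.Agent.An.H891.Geom Groth.Agent.An.H891.ClSq
  Groth.Agent.An.H891.CompSq Groth.Agent.An.H891.ClOpen Groth.Agent.Sga4h.RPair

theorem isIso_of_clPullD {T : Type} [TopologicalSpace T] {ι : Type*} {P : ι → Type}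
    [∀ i, TopologicalSpace (P i)] (g : ∀ i, C(P i, T)) (hg : ∀ t : T, ∃ (i : ι) (p : P i), g i p = t)
    {K L : DCl T} (φ : K ⟶ L) (h : ∀ i, IsIso ((clPullD (g i)).map φ)) : IsIso φ := by
  rw [DerivedCategory.isIso_iff]
  intro n
  refine Groth.Agent.An.H890.Conserv.isIso_of_pullCl g hg _ fun i => ?_
  have h1 := h i
  exact (Dcoh.MapDer.isIso_homology_map_iff (clPull (g i)) φ n).1 inferInstance

section one

variable {X Y X' Y' : Scheme.{0}} [X.Over An.SC] [Y.Over An.SC] [X'.Over An.SC] [Y'.Over An.SC]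
  [LocallyOfFiniteType (X ↘ An.SC)] [LocallyOfFiniteType (Y ↘ An.SC)]
  [LocallyOfFiniteType (X' ↘ An.SC)] [LocallyOfFiniteType (Y' ↘ An.SC)]
  {f : X ⟶ Y} {g : Y' ⟶ Y} {f' : X' ⟶ Y'} {g' : X' ⟶ X}
  [f.IsOver An.SC] [g.IsOver An.SC] [f'.IsOver An.SC] [g'.IsOver An.SC]

/-- Analytic derived base change along an open immersion. -/
theorem clBC_open (h : IsPullback g' f' f g) [IsOpenImmersion g] (K : DCl (An.Pts X)) :
    ClBC (mapC_sq h.w) K := by
  have hg' : IsOpenImmersion g' :=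
    MorphismProperty.of_isPullback (P := @IsOpenImmersion) h.flip inferInstance
  refine clBC_of_isOpenEmbedding (mapC_sq h.w) (Groth.Agent.An.H871.Imm.isOpenEmbedding_map g)
    (Groth.Agent.An.H871.Imm.isOpenEmbedding_map g') ?_ K
  rintro x ⟨y, hy⟩
  exact ⟨Groth.Agent.An.H883.EpsLim.liftPt h x y hy.symm,
    Subtype.ext (Groth.Agent.An.H883.EpsLim.liftPt_val_fst h x y hy.symm)⟩

/-- Restriction of the comparison to an open of the target. -/
theorem Comp.restrict (h : IsPullback g' f' f g) [IsOpenImmersion g] {K : DCoh.DEt X}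
    (hc : Comp f K) : Comp f' ((pullD g').obj K) :=
  Comp.base_change h.w hc (Groth.Agent.Sga4h.GSq.bc_of_etale h K) (clBC_open h _)

end one

section cover

variable {X Y : Scheme.{0}} [X.Over An.SC] [Y.Over An.SC] [LocallyOfFiniteType (X ↘ An.SC)]
  [LocallyOfFiniteType (Y ↘ An.SC)] {f : X ⟶ Y} [f.IsOver An.SC]
  {ι : Type*} {X' Y' : ι → Scheme.{0}} [∀ i, (X' i).Over An.SC] [∀ i, (Y' i).Over An.SC]
  [∀ i, LocallyOfFiniteType (X' i ↘ An.SC)] [∀ i, LocallyOfFiniteType (Y' i ↘ An.SC)]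
  {g : ∀ i, Y' i ⟶ Y} {f' : ∀ i, X' i ⟶ Y' i} {g' : ∀ i, X' i ⟶ X}
  [∀ i, (g i).IsOver An.SC] [∀ i, (f' i).IsOver An.SC] [∀ i, (g' i).IsOver An.SC]

/-- The comparison is Zariski local on the target. -/
theorem Comp.of_cover (h : ∀ i, IsPullback (g' i) (f' i) f (g i)) [∀ i, IsOpenImmersion (g i)]
    (hg : ∀ y : Y, ∃ i, y ∈ Set.range (g i)) {K : DCoh.DEt X}
    (hc : ∀ i, Comp (f' i) ((pullD (g' i)).obj K)) : Comp f K := by
  refine Sq.BC.of_local (dsq (f := gEt f) (g := gEps Y) (f' := gCl (An.Pts.mapC f))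
      (g' := gEps X) (gam f))
    (fun i => dsq (f := gCl (An.Pts.mapC f)) (g := gCl (An.Pts.mapC (g i)))
      (f' := gCl (An.Pts.mapC (f' i))) (g' := gCl (An.Pts.mapC (g' i))) (clsq (mapC_sq (h i).w)))
    (fun φ hφ => isIso_of_clPullD (fun i => An.Pts.mapC (g i)) (fun y => ?_) φ hφ)
    ((gEt f).hasUniv K) ((gCl (An.Pts.mapC f)).hasUniv _) (fun i => clBC_open (h i) _) (fun i => ?_)
  · obtain ⟨i, hi⟩ := hg y.pt
    have h1 : y ∈ Set.range (An.Pts.map (g i)) := by
      rw [Groth.Agent.An.H871.Imm.range_map_of_isOpenImmersion]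
      exact hi
    obtain ⟨y', hy'⟩ := h1
    exact ⟨i, y', hy'⟩
  · exact (bc_hcomp_iff (hcoh_an (h i).w) K).2
      (DiagBC.of_et (Groth.Agent.Sga4h.GSq.bc_of_etale (h i) K) (hc i))

end cover

end Groth.Agent.An.H891.CompLoc
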