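import Groth.Agent.Sga4h.DPaste
import Groth.Agent.Sga4h.GSqCoh
import Groth.Agent.Sga4h.RPairEq

/-!
# Geometric morphisms between abelian categories and derived base change

`GM A B`: an adjunction `L ⊣ R` with `L : B ⥤ A` exact (think `L = f^*`, `R = f_*`).
For a square `α : g'.R ⋙ f.R ≅ f'.R ⋙ g.R` and `K : DerivedCategory A`, `BC f g f' g' α K` says that the
derived base change `g^* Rf_* K ⟶ Rf'_* g'^* K` is an isomorphism.
-/

set_option autoImplicit false
set_option linter.unusedSectionVars false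

attribute [local instance] HasDerivedCategory.standard

noncomputable section
namespace Groth.Agent.An.H891.Geom

open CategoryTheory CategoryTheory.Limits Pretriangulated
open Groth.Agent.Etrest.RDer3 Groth.Agent.Etrest.RDer4 Groth.Agent.Etrest.RDer5
  Groth.Agent.Etrest.DEtMate Groth.Agent.EtpbcB Groth.Agent.Sga4h.RPair Groth.Agent.Sga4h.DPaste

universe v₁ v₂ v₃ v₄ v₅ v₆ u₁ u₂ u₃ u₄ u₅ u₆

/-- A geometric morphism `A → B` between abelian categories. -/
structure GM (A : Type u₁) [Category.{v₁} A] [Abelian A] (B : Type u₂) [Category.{v₂} B] [Abelian B] where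
  /-- inverse image -/
  L : B ⥤ A
  /-- direct image -/
  R : A ⥤ B
  adj : L ⊣ R
  addL : L.Additive
  addR : R.Additive
  lim : PreservesFiniteLimits L
  colim : PreservesFiniteColimits L
  limR : PreservesFiniteLimits R

namespace GM

attribute [instance] GM.addL GM.addR GM.lim GM.colim GM.limR

variable {A : Type u₁} [Category.{v₁} A] [Abelian A] {B : Type u₂} [Category.{v₂} B] [Abelian B]
  {C : Type u₃} [Category.{v₃} C] [Abelian C]

/-- Composition of geometric morphisms `A → B → C`. -/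
@[simps! L R adj]
def comp (e : GM A B) (f : GM B C) : GM A C where
  L := f.L ⋙ e.L
  R := e.R ⋙ f.R
  adj := f.adj.comp e.adj
  addL := inferInstance
  addR := inferInstance
  lim := inferInstance
  colim := inferInstance
  limR := inferInstance

/-- Derived inverse image. -/
abbrev LD (f : GM A B) : DerivedCategory B ⥤ DerivedCategory A := f.L.mapDerivedCategory

/-- Derived direct image. -/
abbrev RD [HasKInj A] (f : GM A B) : DerivedCategory A ⥤ DerivedCategory B := TR f.R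

/-- Derived adjunction. -/
def dadj [HasKInj A] (f : GM A B) : f.LD ⊣ f.RD := dAdj f.adj

theorem isUniv_RD [HasKInj A] (f : GM A B) (K : DerivedCategory A) :
    IsUniv f.LD (f.dadj.counit.app K) := isUniv_TR f.adj K

theorem hasUniv [HasKInj A] (f : GM A B) (K : DerivedCategory A) : HasUniv f.LD K :=
  Sga4h.RPair.hasUniv f.adj K

end GM

section square

variable {A : Type u₁} [Category.{v₁} A] [Abelian A] {B : Type u₂} [Category.{v₂} B] [Abelian B]
  {A' : Type u₃} [Category.{v₃} A'] [Abelian A'] {B' : Type u₄} [Category.{v₄} B'] [Abelian B']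
  {f : GM A B} {g : GM B' B} {f' : GM A' B'} {g' : GM A' A}

/-- The comparison of inverse images attached to a comparison of direct images. -/
def cmpOf (α : g'.R ⋙ f.R ≅ f'.R ⋙ g.R) : g.L ⋙ f'.L ≅ f.L ⋙ g'.L :=
  MateCalc.leftIso (g.adj.comp f'.adj) (f.adj.comp g'.adj) α.symm

/-- The square of derived inverse images. -/
def dsq (α : g'.R ⋙ f.R ≅ f'.R ⋙ g.R) : Sq f.LD g.LD g'.LD f'.LD := Sga4h.RPair.sq (cmpOf α)

instance (α : g'.R ⋙ f.R ≅ f'.R ⋙ g.R) : NatTrans.CommShift (dsq α).σ.hom ℤ :=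
  commShift_cD (cmpOf α).hom

/-- Derived base change holds for `K`. -/
def BC (α : g'.R ⋙ f.R ≅ f'.R ⋙ g.R) (K : DerivedCategory A) : Prop := (dsq α).BC K

/-- The degree zero base change transformation. -/
abbrev bc0 (α : g'.R ⋙ f.R ≅ f'.R ⋙ g.R) : f.R ⋙ g.L ⟶ g'.L ⋙ f'.R :=
  MateCalc.bcNat g.adj g'.adj α.hom

variable {α : g'.R ⋙ f.R ≅ f'.R ⋙ g.R}

theorem BC_iff [HasKInj A] [HasKInj A'] (K : DerivedCategory A) :
    BC α K ↔ IsIso ((bcD (bc0 α)).app K) := by
  have h : bc0 α = mate f.adj f'.adj (cmpOf α).hom := bcNat_eq_mate_generic _ _ _ _ _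
  rw [h]
  exact bc_iff f.adj f'.adj (cmpOf α) K

theorem BC.of_iso {K L : DerivedCategory A} (h : BC α K) (e : K ≅ L) : BC α L := Sq.BC.of_iso h e

theorem BC.shift {K : DerivedCategory A} (h : BC α K) (n : ℤ) : BC α (K⟦n⟧) := Sq.BC.shift h n

theorem BC.of_shift {K : DerivedCategory A} {n : ℤ} (h : BC α (K⟦n⟧)) : BC α K := Sq.BC.of_shift h

theorem BC.three {T : Triangle (DerivedCategory A)} (hT : T ∈ distTriang _) (h₁ : BC α T.obj₁)
    (h₂ : BC α T.obj₂) : BC α T.obj₃ := Sq.BC.three hT h₁ h₂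

theorem BC.one {T : Triangle (DerivedCategory A)} (hT : T ∈ distTriang _) (h₂ : BC α T.obj₂)
    (h₃ : BC α T.obj₃) : BC α T.obj₁ := Sq.BC.one hT h₂ h₃

theorem BC.two {T : Triangle (DerivedCategory A)} (hT : T ∈ distTriang _) (h₁ : BC α T.obj₁)
    (h₃ : BC α T.obj₃) : BC α T.obj₂ := Sq.BC.two hT h₁ h₃

theorem BC.of_isZero [HasKInj A] [HasKInj A'] {K : DerivedCategory A} (hK : IsZero K) : BC α K := by
  rw [BC_iff]
  exact IsZero.isIso (Functor.map_isZero g.LD (Functor.map_isZero f.RD hK))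
    (Functor.map_isZero f'.RD (Functor.map_isZero g'.LD hK)) _

/-- Base change is stable under retracts. -/
theorem BC.of_retract [HasKInj A] [HasKInj A'] {K L : DerivedCategory A} (h : BC α L)
    (e : Retract K L) : BC α K := by
  rw [BC_iff] at h ⊢
  have r : RetractArrow ((bcD (bc0 α)).app K) ((bcD (bc0 α)).app L) :=
    { i := Arrow.homMk ((f.RD ⋙ g.LD).map e.i) ((g'.LD ⋙ f'.RD).map e.i)
          ((bcD (bc0 α)).naturality e.i)
      r := Arrow.homMk ((f.RD ⋙ g.LD).map e.r) ((g'.LD ⋙ f'.RD).map e.r)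
          ((bcD (bc0 α)).naturality e.r)
      retract := by
        ext
        · simp [← Functor.map_comp]
        · simp [← Functor.map_comp] }
  have h' : MorphismProperty.isomorphisms _ ((bcD (bc0 α)).app L) := h
  exact MorphismProperty.of_retract r h'

theorem bc_of_homology [HasKInj A] [HasKInj A'] (K : DerivedCategory A) (a : ℤ) [K.IsGE a]
    (h : ∀ n : ℤ, BC α ((DerivedCategory.singleFunctor A n).obj
      ((DerivedCategory.homologyFunctor A n).obj K))) : BC α K :=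
  Sga4h.RPair.bc_of_homology f.adj f'.adj (cmpOf α) K a h

theorem bc_single_iff (F : A) (n : ℤ) :
    BC α ((DerivedCategory.singleFunctor A n).obj F) ↔
      BC α ((DerivedCategory.singleFunctor A 0).obj F) := by
  have e : ((DerivedCategory.singleFunctor A n).obj F)⟦n⟧ ≅
      (DerivedCategory.singleFunctor A 0).obj F :=
    ((DerivedCategory.singleFunctors A).shiftIso n 0 n (by simp)).app F
  exact ⟨fun h => (h.shift n).of_iso e, fun h => BC.of_shift (n := n) (h.of_iso e.symm)⟩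

/-- Way-out, with all sheaves placed in degree `0`. -/
theorem bc_of_homology₀ [HasKInj A] [HasKInj A'] (K : DerivedCategory A) (a : ℤ) [K.IsGE a]
    (h : ∀ n : ℤ, BC α ((DerivedCategory.singleFunctor A 0).obj
      ((DerivedCategory.homologyFunctor A n).obj K))) : BC α K :=
  bc_of_homology K a (fun n => (bc_single_iff _ n).2 (h n))

/-- Base change for vertical equivalences. -/
theorem bc_of_vert [f.LD.IsEquivalence] [f'.LD.IsEquivalence] (K : DerivedCategory A) : BC α K :=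
  Sq.BC.of_vertical_equiv _

/-- Base change for horizontal equivalences. -/
theorem bc_of_horiz [HasKInj A] [g.LD.IsEquivalence] [g'.LD.Full] [g'.LD.Faithful]
    (K : DerivedCategory A) : BC α K :=
  Sq.BC.of_equiv _ (f.hasUniv K)

end square

section hcomp

variable {A : Type u₁} [Category.{v₁} A] [Abelian A] {B : Type u₂} [Category.{v₂} B] [Abelian B]
  {A' : Type u₃} [Category.{v₃} A'] [Abelian A'] {B' : Type u₄} [Category.{v₄} B'] [Abelian B']
  {A'' : Type u₅} [Category.{v₅} A''] [Abelian A''] {B'' : Type u₆} [Category.{v₆} B''] [Abelian B'']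
  {f : GM A B} {g : GM B' B} {f' : GM A' B'} {g' : GM A' A}
  {h : GM B'' B'} {h' : GM A'' A'} {f'' : GM A'' B''} {gh : GM B'' B} {gh' : GM A'' A}
  (α : g'.R ⋙ f.R ≅ f'.R ⋙ g.R) (β : h'.R ⋙ f'.R ≅ f''.R ⋙ h.R) (γ : gh'.R ⋙ f.R ≅ f''.R ⋙ gh.R)
  (c : h.R ⋙ g.R ≅ gh.R) (c' : h'.R ⋙ g'.R ≅ gh'.R)

/-- Horizontal pasting, coherence on direct images. -/
def HCoh : Prop := ∀ G : A'', f.R.map (c'.hom.app G) ≫ γ.hom.app G =
  α.hom.app (h'.R.obj G) ≫ g.R.map (β.hom.app G) ≫ c.hom.app (f''.R.obj G)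

variable {α β γ c c'}

theorem bc_hcomp_iff (H : HCoh α β γ c c') (K : DerivedCategory A) :
    ((dsq α).hcomp (dsq β)).BC K ↔ BC γ K :=
  Sga4h.DPaste.bc_hcomp_iff (cmpOf α) (cmpOf β) (cmpOf γ)
    (MateCalc.leftIso (g.adj.comp h.adj) gh.adj c) (MateCalc.leftIso (g'.adj.comp h'.adj) gh'.adj c')
    (Sga4h.GSqCoh.hcoh f.adj f'.adj f''.adj g.adj g'.adj α h.adj h'.adj β gh.adj gh'.adj γ c c' H) K

theorem BC.hcomp (H : HCoh α β γ c c') {K : DerivedCategory A} (h₁ : BC α K)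
    (h₂ : BC β (g'.LD.obj K)) : BC γ K :=
  (bc_hcomp_iff H K).1 (Sq.BC.hcomp h₁ h₂)

theorem BC.of_hcomp (H : HCoh α β γ c c') {K : DerivedCategory A} (h₁ : BC α K)
    (h₂ : BC γ K) : BC β (g'.LD.obj K) :=
  Sq.BC.of_hcomp h₁ ((bc_hcomp_iff H K).2 h₂)

/-- Base change along `g` follows from base change along `g ∘ h` if `h^*` is conservative on the
comparison. -/
theorem BC.of_hcomp_equiv (H : HCoh α β γ c c') [h.LD.IsEquivalence] [h'.LD.Full] [h'.LD.Faithful]
    {K : DerivedCategory A} (h₂ : BC γ K) : BC α K :=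
  Sq.BC.of_hcomp_equiv (dsq β) ((bc_hcomp_iff H K).2 h₂)

end hcomp

section vcomp

variable {A : Type u₁} [Category.{v₁} A] [Abelian A] {B : Type u₂} [Category.{v₂} B] [Abelian B]
  {A' : Type u₃} [Category.{v₃} A'] [Abelian A'] {B' : Type u₄} [Category.{v₄} B'] [Abelian B']
  {C : Type u₅} [Category.{v₅} C] [Abelian C] {C' : Type u₆} [Category.{v₆} C'] [Abelian C']
  {f : GM A B} {g : GM B' B} {f' : GM A' B'} {g' : GM A' A}
  {e : GM C A} {e' : GM C' A'} {k : GM C' C} {ef : GM C B} {ef' : GM C' B'}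
  (α : g'.R ⋙ f.R ≅ f'.R ⋙ g.R) (β : k.R ⋙ e.R ≅ e'.R ⋙ g'.R) (γ : k.R ⋙ ef.R ≅ ef'.R ⋙ g.R)
  (c : e.R ⋙ f.R ≅ ef.R) (c' : e'.R ⋙ f'.R ≅ ef'.R)

/-- Vertical pasting, coherence on direct images. -/
def VCoh : Prop := ∀ G : C', c.hom.app (k.R.obj G) ≫ γ.hom.app G =
  f.R.map (β.hom.app G) ≫ α.hom.app (e'.R.obj G) ≫ g.R.map (c'.hom.app G)

variable {α β γ c c'}

theorem bc_vcomp_iff (H : VCoh α β γ c c') (K : DerivedCategory C) :
    ((dsq α).vcomp (dsq β)).BC K ↔ BC γ K :=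
  Sga4h.DPaste.bc_vcomp_iff (cmpOf α) (cmpOf β) (cmpOf γ)
    (MateCalc.leftIso (f.adj.comp e.adj) ef.adj c) (MateCalc.leftIso (f'.adj.comp e'.adj) ef'.adj c')
    (Sga4h.GSqCoh.vcoh f.adj f'.adj e.adj e'.adj ef.adj ef'.adj g.adj g'.adj k.adj α β γ c c' H) K

theorem BC.vcomp [HasKInj C] (H : VCoh α β γ c c') {K : DerivedCategory C} (h₂ : BC β K)
    (h₁ : BC α (e.RD.obj K)) : BC γ K :=
  (bc_vcomp_iff H K).1 (Sq.BC.vcomp (e.isUniv_RD K) h₂ h₁)

theorem BC.of_vcomp [HasKInj A] [HasKInj C] (H : VCoh α β γ c c') {K : DerivedCategory C}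
    (h₂ : BC β K) (h : BC γ K) : BC α (e.RD.obj K) :=
  Sq.BC.of_vcomp (e.isUniv_RD K) h₂ (f.hasUniv _) ((bc_vcomp_iff H K).2 h)

/-- If base change for `f` holds for `Re_* K` then base change for `f ∘ e` is equivalent to
`Rf'_*(base change for e)` being an isomorphism. -/
theorem bc_comp_iff_isIso [HasKInj A] [HasKInj C] [HasKInj A'] [HasKInj C'] (H : VCoh α β γ c c')
    {K : DerivedCategory C} (h₁ : BC α (e.RD.obj K)) :
    BC γ K ↔ IsIso (f'.RD.map ((bcD (bc0 β)).app K)) := by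
  have hmate : bc0 β = mate e.adj e'.adj (cmpOf β).hom := bcNat_eq_mate_generic _ _ _ _ _
  rw [← bc_vcomp_iff H K, hmate, bcD_mate]
  set u := (mate (dAdj e.adj) (dAdj e'.adj) (cD (cmpOf β).hom)).app K with hu
  have h2 : (dsq β).bc ((dAdj e.adj).counit.app K) =
      e'.LD.map u ≫ (dAdj e'.adj).counit.app (k.LD.obj K) :=
    (mate_counit (dAdj e.adj) (dAdj e'.adj) (cD (cmpOf β).hom) K).symm
  -- universal pair for `f` at `Re_* K`
  obtain ⟨M, ε, hε⟩ := f.hasUniv (e.RD.obj K)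
  have hε' : IsUniv f'.LD ((dsq α).bc ε) := h₁.isUniv hε
  have hM : IsUniv (f.LD ⋙ e.LD) (M := M) (e.LD.map ε ≫ (dAdj e.adj).counit.app K) :=
    hε.comp (e.isUniv_RD K)
  have key : ((dsq α).vcomp (dsq β)).BC K ↔ IsUniv f'.LD ((dsq α).bc ε ≫ u) := by
    constructor
    · intro h
      have h3 := h.isUniv hM
      rw [Sq.vcomp_bc, h2, ← Category.assoc, ← Functor.map_comp] at h3
      exact IsUniv.of_comp (e'.isUniv_RD _) h3
    · intro h
      refine ⟨M, _, hM, ?_⟩
      rw [Sq.vcomp_bc, h2, ← Category.assoc, ← Functor.map_comp]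
      exact h.comp (e'.isUniv_RD _)
  rw [key]
  have h5 := f'.isUniv_RD (e'.RD.obj (k.LD.obj K))
  have h4 := f'.isUniv_RD (g'.LD.obj (e.RD.obj K))
  have h6 := f'.dadj.counit.naturality u
  have h7 : f'.LD.map ((hε'.iso h4).hom ≫ f'.RD.map u) ≫ f'.dadj.counit.app _ =
      (dsq α).bc ε ≫ u := by
    rw [Functor.map_comp, Category.assoc]
    refine (congrArg _ h6).trans ?_
    exact (Category.assoc _ _ _).symm.trans (congrArg (· ≫ u) (hε'.iso_hom_fac h4))
  rw [← h7]
  refine (h5.isIso_iff ((hε'.iso h4).hom ≫ f'.RD.map u)).symm.trans ?_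
  constructor
  · intro h
    exact IsIso.of_isIso_comp_left (hε'.iso h4).hom _
  · intro h
    infer_instance

end vcomp

end Groth.Agent.An.H891.Geom
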