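import Groth.Agent.An.H862.Calc4219
import Groth.Agent.An.H894.Inputs
import Groth.Agent.An.H882.GMField
import Groth.Agent.An.H495.CompInd

/-!
# The three inputs of `Calc4219`

* `properIn`: proper morphisms;
* `gmIn`: the complement of the zero section of the relative affine line;
* `mainIn`: the abstract induction.
-/

set_option autoImplicit false
attribute [-instance] AlgebraicGeometry.specOverSpec
open CategoryTheory CategoryTheory.Limits AlgebraicGeometry Opposite TopologicalSpace Topology An

noncomputable section
namespace Groth.Agent.An.H891.Inputs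

open Groth.Agent.An.H862.Calc4219

/-- Proper morphisms. -/
theorem properIn : ProperIn := by
  intro X S _ _ _ _ f _ _
  exact ⟨fun F hF => Groth.Agent.An.H890.Acy.isIso_theta_of_degZero f
      Groth.Agent.An.H894.Inputs.degZero F hF,
    fun J _ l hl q hq => Groth.Agent.An.H890.AcyFinal.acyclic_tor f
      Groth.Agent.An.H894.Inputs.degZero Groth.Agent.An.H894.Inputs.acyP1 J hl.pos q hq⟩

/-- The complement of the zero section of the affine line. -/
theorem gmIn (m : ℕ) (_ : 0 < m) : GmIn m :=
  fun R s _ _ ℓ hℓ hd => Groth.Agent.An.H882.GMField.hgm properIn R s ℓ hℓ hd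

/-- The abstract induction. -/
theorem mainIn : MainIn :=
  fun _ hm C {_ _} s f _ _ K hK => Groth.Agent.An.H495.CompCalc.main_ft C hm s f K hK

end Groth.Agent.An.H891.Inputs
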